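import Mathlib
import Cfsg.Agent.Helper9.HeO.Abs
import Cfsg.Agent.Helper9.Out.OutLemma2

set_option autoImplicit false

/-! Abstract lemmas: the image under an automorphism of an involution in the centre of a Sylow
2-subgroup, when the other elements of the centre lack a property that all images have; conjugate
elements have the same conjugates; a criterion for all automorphisms to be inner when the
centralizer of the first generator is larger than the subgroup it generates. -/

namespace Cfsg.Agent.Helper9.F3O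

open Cfsg.Agent.Helper9.OutL

/-- when the elements of the centre of a Sylow 2-subgroup having a property that all images of `b`
under automorphisms have are the neutral element and `b`, every automorphism maps `b` to a
conjugate of it. -/
theorem aut_conj_of_center_inv {X : Type*} [Group X] [Finite X] (S : Subgroup X)
    (hcard : Nat.card S = 2 ^ (Nat.card X).factorization 2) (b : X) (hb : b ∈ S) (hb1 : b ≠ 1)
    (hbc : ∀ y ∈ S, b * y = y * b)
    (I : X → Prop) (hI : ∀ α : MulAut X, I (α b))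
    (hcen : ∀ x ∈ S, (∀ y ∈ S, x * y = y * x) → I x → x = 1 ∨ x = b)
    (β : MulAut X) : ∃ g : X, g * b * g⁻¹ = β b := by
  have : Fact (Nat.Prime 2) := ⟨Nat.prime_two⟩
  let P : Sylow 2 X := Sylow.ofCard S hcard
  have hQ : Nat.card (S.map β.toMonoidHom) = 2 ^ (Nat.card X).factorization 2 := by
    rw [Subgroup.card_map_of_injective (f := β.toMonoidHom) β.injective]
    exact hcard
  let Q : Sylow 2 X := Sylow.ofCard (S.map β.toMonoidHom) hQ
  obtain ⟨g, hg⟩ := MulAction.exists_smul_eq X P Q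
  have hPS : ∀ x : X, x ∈ (P : Subgroup X) ↔ x ∈ S := fun x => Iff.rfl
  have hQS : ∀ x : X, x ∈ (Q : Subgroup X) ↔ x ∈ S.map β.toMonoidHom := fun x => Iff.rfl
  have hmem : ∀ x : X, x ∈ S.map β.toMonoidHom ↔ ∃ s ∈ S, g * s * g⁻¹ = x := by
    intro x
    rw [← hQS, ← hg, Sylow.coe_subgroup_smul, Subgroup.mem_smul_pointwise_iff_exists]
    constructor
    · rintro ⟨s, hs, rfl⟩
      exact ⟨s, (hPS s).mp hs, rfl⟩
    · rintro ⟨s, hs, rfl⟩
      exact ⟨s, (hPS s).mpr hs, rfl⟩
  have h1 : β b ∈ S.map β.toMonoidHom := Subgroup.mem_map.mpr ⟨b, hb, rfl⟩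
  obtain ⟨s, hs, hsb⟩ := (hmem _).mp h1
  have hscen : ∀ y ∈ S, s * y = y * s := by
    intro y hy
    have h2 : g * y * g⁻¹ ∈ S.map β.toMonoidHom := (hmem _).mpr ⟨y, hy, rfl⟩
    obtain ⟨y', hy', hyy⟩ := Subgroup.mem_map.mp h2
    have h3 : β b * β y' = β y' * β b := by
      rw [← map_mul, ← map_mul, hbc y' hy']
    have hyy' : β y' = g * y * g⁻¹ := hyy
    rw [← hsb, hyy'] at h3
    have h4 : g * (s * y) * g⁻¹ = g * (y * s) * g⁻¹ := by
      calc g * (s * y) * g⁻¹ = g * s * g⁻¹ * (g * y * g⁻¹) := by group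
        _ = g * y * g⁻¹ * (g * s * g⁻¹) := h3
        _ = g * (y * s) * g⁻¹ := by group
    exact mul_left_cancel (mul_right_cancel h4)
  have hIs : I s := by
    have h6 := hI ((MulAut.conj g)⁻¹ * β)
    have h7 : ((MulAut.conj g)⁻¹ * β) b = s := by
      rw [MulAut.mul_apply, MulAut.conj_inv_apply, ← hsb]
      group
    rw [h7] at h6
    exact h6
  rcases hcen s hs hscen hIs with h | h
  · exfalso
    apply hb1
    rw [h, mul_one, mul_inv_cancel] at hsb
    have : β b = β 1 := by rw [← hsb, map_one]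
    exact β.injective this
  · rw [h] at hsb
    exact ⟨g, hsb⟩

/-- conjugate elements have the same conjugates. -/
theorem class_conj {X : Type*} [Group X] (u x : X) :
    {y : X | ∃ g : X, g * (u * x * u⁻¹) * g⁻¹ = y} = {y : X | ∃ g : X, g * x * g⁻¹ = y} := by
  ext y
  constructor
  · rintro ⟨g, rfl⟩
    exact ⟨g * u, by group⟩
  · rintro ⟨g, rfl⟩
    exact ⟨g * u⁻¹, by group⟩

/-- the image of an element under an automorphism has as many conjugates as the element. -/
theorem ncard_class_aut {X : Type*} [Group X] (α : MulAut X) (x : X) :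
    {y : X | ∃ g : X, g * α x * g⁻¹ = y}.ncard = {y : X | ∃ g : X, g * x * g⁻¹ = y}.ncard := by
  have e : {y : X | ∃ g : X, g * α x * g⁻¹ = y} = α '' {y : X | ∃ g : X, g * x * g⁻¹ = y} := by
    ext y
    constructor
    · rintro ⟨g, rfl⟩
      refine ⟨α.symm g * x * (α.symm g)⁻¹, ⟨α.symm g, rfl⟩, ?_⟩
      rw [map_mul, map_mul, map_inv, MulEquiv.apply_symm_apply]
    · rintro ⟨y, ⟨g, rfl⟩, rfl⟩
      refine ⟨α g, ?_⟩
      rw [map_mul, map_mul, map_inv]
  rw [e]
  exact Set.ncard_image_of_injective _ α.injective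

/-- a variant of the criterion for all automorphisms to be inner: a candidate satisfying the
relations is the conjugate of `b` by an element that commutes with `a`. -/
theorem all_inner_cent {G : Type*} [Group G] [Finite G] (p : ℕ) [hp : Fact p.Prime] (a b n : G)
    (r : ℕ) (hgen : Subgroup.closure ({a, b} : Set G) = ⊤)
    (ha : orderOf a = p) (hp2 : ¬ p ^ 2 ∣ Nat.card G)
    (hn : n * a * n⁻¹ = a ^ r)
    (K0 : List ℕ)
    (hK0 : ∀ k, 0 < k → k < p → ∃ j : ℕ, ∃ k0 ∈ K0, (k * r ^ j) % p = k0 % p)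
    (Cand : Set G) (hCand : ∀ β : MulAut G, ∃ i : ℕ, a ^ i * β b * (a ^ i)⁻¹ ∈ Cand)
    (rels : List (List Bool × ℕ)) (hrels : ∀ e ∈ rels, evalW e.1 a b ^ e.2 = 1)
    (htest : ∀ k0 ∈ K0, ∀ b' ∈ Cand, (∀ e ∈ rels, evalW e.1 (a ^ k0) b' ^ e.2 = 1) →
      a ^ k0 = a ∧ ∃ c : G, c * a * c⁻¹ = a ∧ b' = c * b * c⁻¹)
    (α : MulAut G) : ∃ d : G, α = MulAut.conj d := by
  obtain ⟨c, k0, b', hk0, -, -, h1, -⟩ :=
    aut_normal_form p a b n r ha hp2 hn K0 hK0 Set.univ (fun _ => Set.mem_univ _) rels hrels α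
  obtain ⟨i, hi⟩ := hCand (MulAut.conj c * α)
  have hβa : (MulAut.conj (a ^ i) * (MulAut.conj c * α)) a = a ^ k0 := by
    rw [MulAut.mul_apply, h1, MulAut.conj_apply, (Commute.pow_pow_self a i k0).eq,
      mul_inv_cancel_right]
  have hβb : (MulAut.conj (a ^ i) * (MulAut.conj c * α)) b =
      a ^ i * (MulAut.conj c * α) b * (a ^ i)⁻¹ := by
    rw [MulAut.mul_apply, MulAut.conj_apply]
  have hrβ : ∀ e ∈ rels,
      evalW e.1 (a ^ k0) ((MulAut.conj (a ^ i) * (MulAut.conj c * α)) b) ^ e.2 = 1 := by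
    intro e he
    rw [← hβa, ← map_evalW, ← map_pow, hrels e he, map_one]
  obtain ⟨hak, u, hua, hub⟩ := htest k0 hk0 _ (by rw [hβb]; exact hi) hrβ
  have hβ' : MulAut.conj (a ^ i) * (MulAut.conj c * α) = MulAut.conj u := by
    apply eq_conj_of_agree a b hgen
    · rw [hβa, hak, hua]
    · exact hub
  refine ⟨c⁻¹ * (a ^ i)⁻¹ * u, ?_⟩
  have e : α = (MulAut.conj c)⁻¹ * ((MulAut.conj (a ^ i))⁻¹ *
      (MulAut.conj (a ^ i) * (MulAut.conj c * α))) := by
    group
  rw [e, hβ', map_mul, map_mul, map_inv, map_inv, mul_assoc]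

end Cfsg.Agent.Helper9.F3O
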