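import Mathlib
import Cfsg.Agent.Helper9.J2.PChain
import Cfsg.Agent.Helper9.J3.Fast
import Cfsg.Agent.Helper9.F3O.DataP

set_option autoImplicit false
set_option Elab.async false

/-!
The ten generators of the second Fischer group as permutations of 31671 points, the group they
generate, words, and checks of tables, as the kernel computes them.
-/

namespace Cfsg.Agent.Helper9.F3O

open Cfsg.Agent.Helper9.J3 Cfsg.Agent.Helper9.PChain

/-- the degree. -/
abbrev nP : ℕ := 31671

/-- the evaluation of a function at a list after the list is computed. -/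
def sappL {α : Type} (f : List ℕ → α) (L : List ℕ) : α :=
  List.rec (f []) (fun a l _ => f (a :: l)) L

theorem sappL_eq {α : Type} (f : List ℕ → α) (L : List ℕ) : sappL f L = f L := by
  cases L <;> rfl

/-- the entry of a list, as the kernel computes it. -/
def nthL (l : List ℕ) (i : ℕ) : ℕ :=
  List.rec (motive := fun _ => ℕ → ℕ) (fun _ => 0)
    (fun a _ ih i => Nat.rec a (fun i' _ => ih i') i) l i

/-- an entry of a table of entries of 16 bits, in pieces of 2048 entries. -/
def lkC (L : List ℕ) (x : ℕ) : ℕ :=
  sapp (fun x => lkF 16 65535 (nthL L (Nat.shiftRight x 11)) (Nat.land x 2047)) x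

/-- the entry of a list of words, as the kernel computes it. -/
def nthW (l : List (List ℕ)) (i : ℕ) : List ℕ :=
  List.rec (motive := fun _ => ℕ → List ℕ) (fun _ => [])
    (fun a _ ih i => Nat.rec a (fun i' _ => ih i') i) l i

/-- the disjunction. -/
def orB (a b : Bool) : Bool := Bool.rec b true a

theorem orB_true {a b : Bool} (h : orB a b = true) : a = true ∨ b = true := by
  cases a
  · exact Or.inr h
  · exact Or.inl rfl

/-- the negation. -/
def notB (a : Bool) : Bool := Bool.rec true false a

theorem notB_true {a : Bool} (h : notB a = true) : a = false := by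
  cases a
  · rfl
  · exact absurd h Bool.false_ne_true

/-- the table of a letter. -/
def selP (l : ℕ) : List ℕ :=
  Nat.rec tabP0 (fun l1 _ => Nat.rec tabP1 (fun l2 _ => Nat.rec tabP2 (fun l3 _ =>
    Nat.rec tabP3 (fun l4 _ => Nat.rec tabP4 (fun l5 _ => Nat.rec tabP5 (fun l6 _ =>
      Nat.rec tabP6 (fun l7 _ => Nat.rec tabP7 (fun l8 _ => Nat.rec tabP8 (fun _ _ => tabP9)
        l8) l7) l6) l5) l4) l3) l2) l1) l

/-- the letters, as the kernel computes them. -/
def tabF (l x : ℕ) : ℕ := lkC (selP l) x

set_option maxRecDepth 1000000 in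
theorem tab_ok_b : allB (fun l => allB (fun x => andB (Nat.ble (tabF l x) 31670)
    (Nat.beq (tabF l (tabF l x)) x)) nP) 10 = true := by decide +kernel

theorem tab_ok (l x : ℕ) (hl : l < 10) (hx : x < nP) :
    tabF l x < nP ∧ tabF l (tabF l x) = x := by
  have h := andB_true (allB_true (allB_true tab_ok_b hl) hx)
  exact ⟨Nat.lt_succ_of_le (Nat.le_of_ble_eq_true h.1), Nat.eq_of_beq_eq_true h.2⟩

/-- the letters. -/
def tab (l x : ℕ) : ℕ := if l < 10 then tabF l x else x

theorem tab_of_lt {l : ℕ} (hl : l < 10) (x : ℕ) : tab l x = tabF l x := if_pos hl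

theorem tab_ge (l x : ℕ) (hl : ¬ l < 10) : tab l x = x := if_neg hl

theorem tab_lt (l x : ℕ) (hx : x < nP) : tab l x < nP := by
  by_cases hl : l < 10
  · rw [tab_of_lt hl]
    exact (tab_ok l x hl hx).1
  · rw [tab_ge l x hl]
    exact hx

theorem tab_tab (l x : ℕ) (hx : x < nP) : tab l (tab l x) = x := by
  by_cases hl : l < 10
  · rw [tab_of_lt hl, tab_of_lt hl]
    exact (tab_ok l x hl hx).2
  · rw [tab_ge l _ hl, tab_ge l _ hl]

/-- the letters as permutations. -/
def P (l : ℕ) : Equiv.Perm (Fin nP) :=
  mkPerm (tab l) (tab l) (fun x hx => tab_lt l x hx) (fun x hx => tab_lt l x hx)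
    (fun x hx => tab_tab l x hx) (fun x hx => tab_tab l x hx)

theorem P_apply (l : ℕ) (x : Fin nP) : (P l x).val = tab l x.val := rfl

theorem P_mul_self (l : ℕ) : P l * P l = 1 := by
  ext x
  change ((P l) ((P l) x)).val = x.val
  rw [P_apply, P_apply]
  exact tab_tab l x.val x.isLt

theorem P_inv (l : ℕ) : (P l)⁻¹ = P l := inv_eq_of_mul_eq_one_left (P_mul_self l)

theorem P_ge (l : ℕ) (hl : ¬ l < 10) : P l = 1 := by
  ext x
  change (P l x).val = x.val
  rw [P_apply, tab_ge l _ hl]

/-- the group generated by the letters. -/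
def F3P : Subgroup (Equiv.Perm (Fin nP)) := Subgroup.closure (Set.range fun l : Fin 10 => P l.val)

theorem P_mem (l : ℕ) : P l ∈ F3P := by
  by_cases hl : l < 10
  · exact Subgroup.subset_closure ⟨⟨l, hl⟩, rfl⟩
  · rw [P_ge l hl]
    exact F3P.one_mem

/-- the permutation of a word. -/
def permW (w : List ℕ) : Equiv.Perm (Fin nP) := (w.map P).prod

theorem permW_mem (w : List ℕ) : permW w ∈ F3P := by
  apply Subgroup.list_prod_mem
  intro x hx
  obtain ⟨l, -, rfl⟩ := List.mem_map.1 hx
  exact P_mem l

theorem permW_apply (w : List ℕ) (x : Fin nP) : (permW w x).val = evalW tab w x.val :=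
  prod_apply tab P P_apply w x

theorem permW_append (a b : List ℕ) : permW (a ++ b) = permW a * permW b := by
  unfold permW
  rw [List.map_append, List.prod_append]

/-- the action of a word, as the kernel computes it. -/
def evalF (w : List ℕ) (x : ℕ) : ℕ :=
  List.rec (motive := fun _ => ℕ → ℕ) (fun x => x) (fun l _ ih x => sapp (tabF l) (ih x)) w x

theorem evalF_eq (w : List ℕ) (hw : ∀ l ∈ w, l < 10) (x : ℕ) : evalF w x = evalW tab w x := by
  induction w with
  | nil => rfl
  | cons l w ih =>
    have hl : l < 10 := hw l List.mem_cons_self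
    have hw' : ∀ l ∈ w, l < 10 := fun j hj => hw j (List.mem_cons_of_mem _ hj)
    change sapp (tabF l) (evalF w x) = tab l (evalW tab w x)
    rw [sapp_eq, ih hw', tab_of_lt hl]

theorem evalF_append (u w : List ℕ) (x : ℕ) : evalF (u ++ w) x = evalF u (evalF w x) := by
  induction u with
  | nil => rfl
  | cons l u ih =>
    change sapp (tabF l) (evalF (u ++ w) x) = sapp (tabF l) (evalF u (evalF w x))
    rw [ih]

theorem perm_ext {σ τ : Equiv.Perm (Fin nP)} (h : ∀ x : Fin nP, (σ x).val = (τ x).val) : σ = τ :=
  Equiv.ext fun x => Fin.ext (h x)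

/-- the check that a table is the composition of two tables. -/
def chkMul (N A B : List ℕ) : Bool :=
  sappL (fun N => sappL (fun A => sappL (fun B =>
    allB (fun x => Nat.beq (lkC N x) (lkC A (lkC B x))) nP) B) A) N

theorem chkMul_true {N A B : List ℕ} (h : chkMul N A B = true) {x : ℕ} (hx : x < nP) :
    lkC N x = lkC A (lkC B x) := by
  unfold chkMul at h
  rw [sappL_eq, sappL_eq, sappL_eq] at h
  exact Nat.eq_of_beq_eq_true (allB_true h hx)

/-- the check that a table is the identity. -/
def chkId (T : List ℕ) : Bool := sappL (fun T => allB (fun x => Nat.beq (lkC T x) x) nP) T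

theorem chkId_true {T : List ℕ} (h : chkId T = true) {x : ℕ} (hx : x < nP) : lkC T x = x := by
  unfold chkId at h
  rw [sappL_eq] at h
  exact Nat.eq_of_beq_eq_true (allB_true h hx)

/-- the check that a table is the table of a word. -/
def chkWord (w : List ℕ) (T : List ℕ) : Bool :=
  sappL (fun T => allB (fun x => Nat.beq (evalF w x) (lkC T x)) nP) T

theorem chkWord_true {w : List ℕ} {T : List ℕ} (h : chkWord w T = true) {x : ℕ} (hx : x < nP) :
    evalF w x = lkC T x := by
  unfold chkWord at h
  rw [sappL_eq] at h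
  exact Nat.eq_of_beq_eq_true (allB_true h hx)

/-- the check that the letters of a word are letters. -/
def okLetters (w : List ℕ) : Bool := List.rec true (fun l _ ih => andB (Nat.ble l 9) ih) w

theorem okLetters_true {w : List ℕ} (h : okLetters w = true) : ∀ l ∈ w, l < 10 := by
  induction w with
  | nil => intro l hl; exact absurd hl List.not_mem_nil
  | cons a w ih =>
    have h' : andB (Nat.ble a 9) (okLetters w) = true := h
    obtain ⟨h1, h2⟩ := andB_true h'
    intro l hl
    rcases List.mem_cons.mp hl with rfl | hl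
    · exact Nat.lt_succ_of_le (Nat.le_of_ble_eq_true h1)
    · exact ih h2 l hl

theorem permW_cons (a : ℕ) (w : List ℕ) : permW (a :: w) = P a * permW w := rfl

/-- the permutation of the reversed word is the inverse. -/
theorem permW_reverse (w : List ℕ) : permW w.reverse = (permW w)⁻¹ := by
  induction w with
  | nil =>
    change (1 : Equiv.Perm (Fin nP)) = 1⁻¹
    rw [inv_one]
  | cons a w ih =>
    have e2 : permW [a] = P a := mul_one (P a)
    rw [List.reverse_cons, permW_append, ih, e2, permW_cons, mul_inv_rev, P_inv]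

theorem permW_val (w : List ℕ) (hw : ∀ l ∈ w, l < 10) (x : Fin nP) :
    (permW w x).val = evalF w x.val := by
  rw [permW_apply, evalF_eq w hw]

/-- increasing functions are injective. -/
theorem lt_of_step {f : ℕ → ℕ} {m : ℕ} (h : ∀ j, j + 1 < m → f j < f (j + 1)) :
    ∀ j i : ℕ, i < j → j < m → f i < f j := by
  intro j
  induction j with
  | zero => intro i hi; omega
  | succ j ih =>
    intro i hi hj
    have hstep : f j < f (j + 1) := h j hj
    rcases Nat.lt_succ_iff_lt_or_eq.1 hi with hlt | heq
    · exact lt_trans (ih i hlt (by omega)) hstep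
    · rw [heq]
      exact hstep

theorem inj_of_step {f : ℕ → ℕ} {m : ℕ} (h : ∀ j, j + 1 < m → f j < f (j + 1))
    {i j : ℕ} (hi : i < m) (hj : j < m) (hij : f i = f j) : i = j := by
  rcases Nat.lt_trichotomy i j with hlt | heq | hgt
  · have := lt_of_step h j i hlt hj
    omega
  · exact heq
  · have := lt_of_step h i j hgt hi
    omega

theorem sumF_range (f : ℕ → ℕ) (m : ℕ) : sumF f m = ∑ x ∈ Finset.range m, f x := by
  induction m with
  | zero => rfl
  | succ m ih => rw [sumF_succ, Finset.sum_range_succ, ih, add_comm]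

/-- the number of the points with a property, as the kernel computes it. -/
theorem card_filter_fin (p : ℕ → Bool) (n : ℕ) :
    (Finset.univ.filter fun q : Fin n => p q.val = true).card =
      sumF (fun x => Bool.rec 0 1 (p x)) n := by
  rw [Finset.card_filter, sumF_range,
    ← Fin.sum_univ_eq_sum_range (fun x => (Bool.rec 0 1 (p x) : ℕ)) n]
  apply Finset.sum_congr rfl
  intro q _
  cases p q.val <;> rfl

/-! ### transitivity -/

/-- the letter leading from a point to a smaller point. -/
def parF (x : ℕ) : ℕ :=
  sapp (fun x => lkF 4 15 (nthL parP (Nat.shiftRight x 13)) (Nat.land x 8191)) x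

set_option maxRecDepth 1000000 in
theorem par_ok_b : allB (fun x => ifz x true (andB (Nat.ble (parF x) 9)
    (Nat.ble (Nat.succ (tabF (parF x) x)) x))) nP = true := by decide +kernel

/-- the group is transitive. -/
theorem exists_mem_F3P (x : ℕ) (hx : x < nP) : ∃ g ∈ F3P, g (0 : Fin nP) = ⟨x, hx⟩ := by
  induction x using Nat.strong_induction_on with
  | _ x ih =>
    rcases Nat.eq_zero_or_pos x with rfl | hpos
    · exact ⟨1, F3P.one_mem, rfl⟩
    · have h := allB_true par_ok_b hx
      rw [ifz_pos (Nat.pos_iff_ne_zero.1 hpos)] at h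
      obtain ⟨h1, h2⟩ := andB_true h
      have hl : parF x < 10 := Nat.lt_succ_of_le (Nat.le_of_ble_eq_true h1)
      have hy : tabF (parF x) x < x := Nat.lt_of_succ_le (Nat.le_of_ble_eq_true h2)
      obtain ⟨g, hg, e⟩ := ih _ hy (lt_trans hy hx)
      refine ⟨P (parF x) * g, F3P.mul_mem (P_mem _) hg, ?_⟩
      apply Fin.ext
      change (P (parF x) (g 0)).val = x
      rw [e, P_apply, tab_of_lt hl]
      exact (tab_ok _ x hl hx).2

end Cfsg.Agent.Helper9.F3O
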