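import Mathlib
import Cfsg.Agent.Helper9.F3O.Perm
import Cfsg.Agent.Helper9.F3O.DataA

set_option autoImplicit false
set_option Elab.async false

/-! The element of order thirteen and the second generator of the second Fischer group on 31671
points. -/

namespace Cfsg.Agent.Helper9.F3O

open Cfsg.Agent.Helper9.J3

/-- the image of a point under a power of the element of order thirteen. -/
def aF (i x : ℕ) : ℕ := lkC (nthW apLL i) x

/-- the image of a point under the second generator. -/
def bF (x : ℕ) : ℕ := lkC bT x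

/-- the element of order thirteen. -/
def aG : ↥F3P := ⟨permW aW, permW_mem _⟩

/-- the second generator. -/
def bG : ↥F3P := ⟨permW bW, permW_mem _⟩

set_option maxRecDepth 1000000 in
theorem aW_tab_b : chkWord aW apT1 = true := by decide +kernel

set_option maxRecDepth 1000000 in
theorem bW_tab_b : andB (chkWord bW bT) (allB (fun x => Nat.beq (sapp bF (bF x)) x) nP) = true := by
  decide +kernel

set_option maxRecDepth 1000000 in
theorem ap_step_b : allB (fun i => chkMul (nthW apLL (Nat.succ i)) apT1 (nthW apLL i)) 13 = true := by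
  decide +kernel

set_option maxRecDepth 1000000 in
theorem ap_zero_b : chkId apT0 = true := by decide +kernel

set_option maxRecDepth 1000000 in
theorem ap_last_b : chkId apT13 = true := by decide +kernel

theorem aW_letters : ∀ l ∈ aW, l < 10 := by decide

theorem bW_letters : ∀ l ∈ bW, l < 10 := by decide

theorem aG_apply (p : Fin nP) : ((aG : Equiv.Perm (Fin nP)) p).val = aF 1 p.val := by
  change (permW aW p).val = lkC apT1 p.val
  rw [permW_val aW aW_letters]
  exact chkWord_true aW_tab_b p.isLt

theorem aF_zero {x : ℕ} (hx : x < nP) : aF 0 x = x := chkId_true ap_zero_b hx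

theorem aF_last {x : ℕ} (hx : x < nP) : aF 13 x = x := chkId_true ap_last_b hx

theorem aF_succ {i : ℕ} (hi : i < 13) {x : ℕ} (hx : x < nP) : aF (i + 1) x = aF 1 (aF i x) :=
  chkMul_true (allB_true ap_step_b hi) hx

theorem aG_pow_apply (i : ℕ) (hi : i ≤ 13) (p : Fin nP) :
    (((aG ^ i : ↥F3P) : Equiv.Perm (Fin nP)) p).val = aF i p.val := by
  induction i with
  | zero =>
    rw [pow_zero, aF_zero p.isLt]
    rfl
  | succ i ih =>
    rw [pow_succ', Subgroup.coe_mul, Equiv.Perm.mul_apply, aG_apply, ih (by omega),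
      aF_succ (by omega) p.isLt]

theorem aG_pow13 : aG ^ 13 = 1 := by
  apply Subtype.ext
  apply perm_ext
  intro p
  rw [aG_pow_apply 13 le_rfl, aF_last p.isLt]
  rfl

theorem aG_ne_one : aG ≠ 1 := by
  intro h
  have h1 := aG_apply (1 : Fin nP)
  rw [h] at h1
  revert h1
  change ¬ (1 = aF 1 1)
  decide +kernel

theorem order_aG : orderOf aG = 13 := by
  have : Fact (Nat.Prime 13) := ⟨by norm_num⟩
  exact orderOf_eq_prime aG_pow13 aG_ne_one

theorem aG_pow_inv {i : ℕ} (hi : i ≤ 13) : (aG ^ i)⁻¹ = aG ^ (13 - i) := by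
  rw [inv_eq_iff_mul_eq_one, ← pow_add, Nat.add_sub_cancel' hi, aG_pow13]

theorem aG_pow_inv_apply {i : ℕ} (hi : i ≤ 13) (p : Fin nP) :
    ((((aG ^ i)⁻¹ : ↥F3P) : Equiv.Perm (Fin nP)) p).val = aF (13 - i) p.val := by
  rw [aG_pow_inv hi, aG_pow_apply _ (by omega)]

theorem bG_apply (p : Fin nP) : ((bG : Equiv.Perm (Fin nP)) p).val = bF p.val := by
  change (permW bW p).val = lkC bT p.val
  rw [permW_val bW bW_letters]
  exact chkWord_true (andB_true bW_tab_b).1 p.isLt

theorem bG_mul_self : bG * bG = 1 := by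
  apply Subtype.ext
  apply perm_ext
  intro p
  rw [Subgroup.coe_mul, Equiv.Perm.mul_apply, bG_apply, bG_apply]
  have h := allB_true (andB_true bW_tab_b).2 p.isLt
  rw [sapp_eq] at h
  exact Nat.eq_of_beq_eq_true h

theorem bG_inv : bG⁻¹ = bG := inv_eq_of_mul_eq_one_left bG_mul_self

end Cfsg.Agent.Helper9.F3O
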