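import Mathlib
import Cfsg.Agent.Helper9.F3O.Base
import Cfsg.Agent.Helper9.F3O.Abs
import Cfsg.Agent.Helper9.F3O.DataS
import Cfsg.Agent.Helper9.F3O.DataT
import Cfsg.Agent.Helper9.F3O.DataW

set_option autoImplicit false
set_option Elab.async false

/-! A subgroup of order 262144 of the second Fischer group on 31671 points, generated by a chain of eighteen elements: the definitions and the tables of the generators. -/

namespace Cfsg.Agent.Helper9.F3O

open Cfsg.Agent.Helper9.J3 Cfsg.Agent.Helper9.HeO

/-- the image of a point under a generator of the subgroup. -/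
def hF (m x : ℕ) : ℕ := lkC (nthW hLL m) x

/-- a generator of the subgroup. -/
def hG (m : ℕ) : ↥F3P := ⟨permW (nthW hWL m), permW_mem _⟩

/-- the check of the table of a generator. -/
def hTabChk (m : ℕ) : Bool :=
  andB (okLetters (nthW hWL m)) (chkWord (nthW hWL m) (nthW hLL m))

set_option maxRecDepth 1000000 in
theorem hTab_b0 : hTabChk 0 = true := by decide +kernel

set_option maxRecDepth 1000000 in
theorem hTab_b1 : hTabChk 1 = true := by decide +kernel

set_option maxRecDepth 1000000 in
theorem hTab_b2 : hTabChk 2 = true := by decide +kernel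

set_option maxRecDepth 1000000 in
theorem hTab_b3 : hTabChk 3 = true := by decide +kernel

set_option maxRecDepth 1000000 in
theorem hTab_b4 : hTabChk 4 = true := by decide +kernel

set_option maxRecDepth 1000000 in
theorem hTab_b5 : hTabChk 5 = true := by decide +kernel

set_option maxRecDepth 1000000 in
theorem hTab_b6 : hTabChk 6 = true := by decide +kernel

set_option maxRecDepth 1000000 in
theorem hTab_b7 : hTabChk 7 = true := by decide +kernel

set_option maxRecDepth 1000000 in
theorem hTab_b8 : hTabChk 8 = true := by decide +kernel

set_option maxRecDepth 1000000 in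
theorem hTab_b9 : hTabChk 9 = true := by decide +kernel

set_option maxRecDepth 1000000 in
theorem hTab_b10 : hTabChk 10 = true := by decide +kernel

set_option maxRecDepth 1000000 in
theorem hTab_b11 : hTabChk 11 = true := by decide +kernel

set_option maxRecDepth 1000000 in
theorem hTab_b12 : hTabChk 12 = true := by decide +kernel

set_option maxRecDepth 1000000 in
theorem hTab_b13 : hTabChk 13 = true := by decide +kernel

set_option maxRecDepth 1000000 in
theorem hTab_b14 : hTabChk 14 = true := by decide +kernel

set_option maxRecDepth 1000000 in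
theorem hTab_b15 : hTabChk 15 = true := by decide +kernel

set_option maxRecDepth 1000000 in
theorem hTab_b16 : hTabChk 16 = true := by decide +kernel

set_option maxRecDepth 1000000 in
theorem hTab_b17 : hTabChk 17 = true := by decide +kernel

theorem hTab_ok {m : ℕ} (hm : m < 18) : hTabChk m = true := by
  interval_cases m
  · exact hTab_b0
  · exact hTab_b1
  · exact hTab_b2
  · exact hTab_b3
  · exact hTab_b4
  · exact hTab_b5
  · exact hTab_b6
  · exact hTab_b7
  · exact hTab_b8
  · exact hTab_b9
  · exact hTab_b10
  · exact hTab_b11
  · exact hTab_b12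
  · exact hTab_b13
  · exact hTab_b14
  · exact hTab_b15
  · exact hTab_b16
  · exact hTab_b17

theorem hG_apply {m : ℕ} (hm : m < 18) (p : Fin nP) :
    ((hG m : Equiv.Perm (Fin nP)) p).val = hF m p.val := by
  obtain ⟨h1, h2⟩ := andB_true (hTab_ok hm)
  change (permW (nthW hWL m) p).val = _
  rw [permW_val _ (okLetters_true h1)]
  exact chkWord_true h2 p.isLt

/-- the image of a point under a normal form. -/
def nfF (m e x : ℕ) : ℕ := Nat.rec x (fun k acc => Bool.rec acc (hF k acc) (bitT e k)) m

theorem nfF_succ (m e x : ℕ) :
    nfF (m + 1) e x = Bool.rec (nfF m e x) (hF m (nfF m e x)) (bitT e m) := rfl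

/-- the normal form as an element of the group. -/
def nfG (m e : ℕ) : ↥F3P := nfE hG m e

theorem nfG_apply {m : ℕ} (hm : m ≤ 18) (e : ℕ) (p : Fin nP) :
    ((nfG m e : Equiv.Perm (Fin nP)) p).val = nfF m e p.val := by
  induction m with
  | zero => rfl
  | succ m ih =>
    unfold nfG
    rw [nfE_succ, nfF_succ]
    cases hb : bitT e m
    · rw [if_neg (by simp), one_mul]
      exact ih (by omega)
    · rw [if_pos rfl, Subgroup.coe_mul, Equiv.Perm.mul_apply, hG_apply (by omega)]
      have := ih (by omega)
      unfold nfG at this
      rw [this]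

/-- the code of the conjugate of a generator by a later generator. -/
def relc (m k : ℕ) : ℕ := lkF 18 262143 relD (Nat.add (Nat.mul 18 m) k)

/-- the code of the square of a generator. -/
def sqc (m : ℕ) : ℕ := lkF 18 262143 sqD m

/-- the check of the conjugate of a generator by a later generator. -/
def pairChk (m k : ℕ) : Bool :=
  sapp (fun c => allB (fun x =>
    Nat.beq (sapp (hF m) (hF k x)) (nfF m c (hF m x))) nP) (relc m k)

/-- the check of the square of a generator. -/
def sqChk (m : ℕ) : Bool :=
  sapp (fun c => allB (fun x => Nat.beq (sapp (hF m) (hF m x)) (nfF m c x)) nP) (sqc m)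

/-- the signature of a normal form. -/
def sSig (e : ℕ) : ℕ := Nat.add (nfF 18 e 7797) (Nat.mul 32768 (nfF 18 e 431))

/-- the entry of the sorted list of the normal forms. -/
def srt (k : ℕ) : ℕ := lkF 18 262143 (nthL srtL (Nat.shiftRight k 11)) (Nat.land k 2047)

/-- the check that the signatures increase. -/
def srtChk (k : ℕ) : Bool :=
  andB (Nat.ble (srt k) 262143)
    (orB (Nat.ble 262143 k) (Nat.ble (Nat.succ (sapp sSig (srt k))) (sapp sSig (srt (Nat.succ k)))))

/-- the entry of the table of the witnesses. -/
def wit (e : ℕ) : ℕ := lkF 20 1048575 (nthL witL (Nat.shiftRight e 11)) (Nat.land e 2047)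

/-- the check that an element does not commute with a generator at a point. -/
def ncChk (e k p : ℕ) : Bool := notB (Nat.beq (nfF 18 e (hF k p)) (sapp (hF k) (nfF 18 e p)))

/-- the check of the witness of a normal form. -/
def witChk (e : ℕ) : Bool :=
  orB (Nat.ble e 3) (sapp (fun w => sapp (fun k => sapp (fun p =>
    andB (Nat.ble k 17) (andB (Nat.ble p 31670) (ncChk e k p)))
    (Nat.shiftRight w 5)) (Nat.land w 31)) (wit e))

end Cfsg.Agent.Helper9.F3O
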