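import Mathlib
import Cfsg.Agent.Helper9.F3O.SylA

set_option autoImplicit false
set_option Elab.async false

/-! The subgroup of order 262144 of the second Fischer group on 31671 points: the conjugates and squares of some of the generators. -/

namespace Cfsg.Agent.Helper9.F3O

open Cfsg.Agent.Helper9.J3 Cfsg.Agent.Helper9.HeO

set_option maxRecDepth 1000000 in
theorem sq_0 : sqChk 0 = true := by decide +kernel

set_option maxRecDepth 1000000 in
theorem rel_1_0 : pairChk 1 0 = true := by decide +kernel

set_option maxRecDepth 1000000 in
theorem sq_1 : sqChk 1 = true := by decide +kernel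

set_option maxRecDepth 1000000 in
theorem rel_2_0 : pairChk 2 0 = true := by decide +kernel

set_option maxRecDepth 1000000 in
theorem rel_2_1 : pairChk 2 1 = true := by decide +kernel

set_option maxRecDepth 1000000 in
theorem sq_2 : sqChk 2 = true := by decide +kernel

set_option maxRecDepth 1000000 in
theorem rel_3_0 : pairChk 3 0 = true := by decide +kernel

set_option maxRecDepth 1000000 in
theorem rel_3_1 : pairChk 3 1 = true := by decide +kernel

set_option maxRecDepth 1000000 in
theorem rel_3_2 : pairChk 3 2 = true := by decide +kernel

set_option maxRecDepth 1000000 in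
theorem sq_3 : sqChk 3 = true := by decide +kernel

set_option maxRecDepth 1000000 in
theorem rel_4_0 : pairChk 4 0 = true := by decide +kernel

set_option maxRecDepth 1000000 in
theorem rel_4_1 : pairChk 4 1 = true := by decide +kernel

set_option maxRecDepth 1000000 in
theorem rel_4_2 : pairChk 4 2 = true := by decide +kernel

set_option maxRecDepth 1000000 in
theorem rel_4_3 : pairChk 4 3 = true := by decide +kernel

set_option maxRecDepth 1000000 in
theorem sq_4 : sqChk 4 = true := by decide +kernel

set_option maxRecDepth 1000000 in
theorem rel_5_0 : pairChk 5 0 = true := by decide +kernel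

set_option maxRecDepth 1000000 in
theorem rel_5_1 : pairChk 5 1 = true := by decide +kernel

set_option maxRecDepth 1000000 in
theorem rel_5_2 : pairChk 5 2 = true := by decide +kernel

set_option maxRecDepth 1000000 in
theorem rel_5_3 : pairChk 5 3 = true := by decide +kernel

set_option maxRecDepth 1000000 in
theorem rel_5_4 : pairChk 5 4 = true := by decide +kernel

set_option maxRecDepth 1000000 in
theorem sq_5 : sqChk 5 = true := by decide +kernel

set_option maxRecDepth 1000000 in
theorem rel_6_0 : pairChk 6 0 = true := by decide +kernel

set_option maxRecDepth 1000000 in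
theorem rel_6_1 : pairChk 6 1 = true := by decide +kernel

set_option maxRecDepth 1000000 in
theorem rel_6_2 : pairChk 6 2 = true := by decide +kernel

set_option maxRecDepth 1000000 in
theorem rel_6_3 : pairChk 6 3 = true := by decide +kernel

set_option maxRecDepth 1000000 in
theorem rel_6_4 : pairChk 6 4 = true := by decide +kernel

set_option maxRecDepth 1000000 in
theorem rel_6_5 : pairChk 6 5 = true := by decide +kernel

set_option maxRecDepth 1000000 in
theorem sq_6 : sqChk 6 = true := by decide +kernel

set_option maxRecDepth 1000000 in
theorem rel_7_0 : pairChk 7 0 = true := by decide +kernel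

set_option maxRecDepth 1000000 in
theorem rel_7_1 : pairChk 7 1 = true := by decide +kernel

set_option maxRecDepth 1000000 in
theorem rel_7_2 : pairChk 7 2 = true := by decide +kernel

set_option maxRecDepth 1000000 in
theorem rel_7_3 : pairChk 7 3 = true := by decide +kernel

set_option maxRecDepth 1000000 in
theorem rel_7_4 : pairChk 7 4 = true := by decide +kernel

set_option maxRecDepth 1000000 in
theorem rel_7_5 : pairChk 7 5 = true := by decide +kernel

set_option maxRecDepth 1000000 in
theorem rel_7_6 : pairChk 7 6 = true := by decide +kernel

set_option maxRecDepth 1000000 in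
theorem sq_7 : sqChk 7 = true := by decide +kernel

set_option maxRecDepth 1000000 in
theorem rel_8_0 : pairChk 8 0 = true := by decide +kernel

set_option maxRecDepth 1000000 in
theorem rel_8_1 : pairChk 8 1 = true := by decide +kernel

set_option maxRecDepth 1000000 in
theorem rel_8_2 : pairChk 8 2 = true := by decide +kernel

set_option maxRecDepth 1000000 in
theorem rel_8_3 : pairChk 8 3 = true := by decide +kernel

set_option maxRecDepth 1000000 in
theorem rel_8_4 : pairChk 8 4 = true := by decide +kernel

set_option maxRecDepth 1000000 in
theorem rel_8_5 : pairChk 8 5 = true := by decide +kernel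

set_option maxRecDepth 1000000 in
theorem rel_8_6 : pairChk 8 6 = true := by decide +kernel

set_option maxRecDepth 1000000 in
theorem rel_8_7 : pairChk 8 7 = true := by decide +kernel

set_option maxRecDepth 1000000 in
theorem sq_8 : sqChk 8 = true := by decide +kernel

set_option maxRecDepth 1000000 in
theorem rel_9_0 : pairChk 9 0 = true := by decide +kernel

set_option maxRecDepth 1000000 in
theorem rel_9_1 : pairChk 9 1 = true := by decide +kernel

set_option maxRecDepth 1000000 in
theorem rel_9_2 : pairChk 9 2 = true := by decide +kernel

set_option maxRecDepth 1000000 in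
theorem rel_9_3 : pairChk 9 3 = true := by decide +kernel

set_option maxRecDepth 1000000 in
theorem rel_9_4 : pairChk 9 4 = true := by decide +kernel

set_option maxRecDepth 1000000 in
theorem rel_9_5 : pairChk 9 5 = true := by decide +kernel

set_option maxRecDepth 1000000 in
theorem rel_9_6 : pairChk 9 6 = true := by decide +kernel

set_option maxRecDepth 1000000 in
theorem rel_9_7 : pairChk 9 7 = true := by decide +kernel

set_option maxRecDepth 1000000 in
theorem rel_9_8 : pairChk 9 8 = true := by decide +kernel

set_option maxRecDepth 1000000 in
theorem sq_9 : sqChk 9 = true := by decide +kernel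

end Cfsg.Agent.Helper9.F3O
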