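import Mathlib
import Cfsg.Agent.Helper9.F3O.SylA

set_option autoImplicit false
set_option Elab.async false

/-! The subgroup of order 262144 of the second Fischer group on 31671 points: the conjugates and squares of some of the generators. -/

namespace Cfsg.Agent.Helper9.F3O

open Cfsg.Agent.Helper9.J3 Cfsg.Agent.Helper9.HeO

set_option maxRecDepth 1000000 in
theorem rel_10_0 : pairChk 10 0 = true := by decide +kernel

set_option maxRecDepth 1000000 in
theorem rel_10_1 : pairChk 10 1 = true := by decide +kernel

set_option maxRecDepth 1000000 in
theorem rel_10_2 : pairChk 10 2 = true := by decide +kernel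

set_option maxRecDepth 1000000 in
theorem rel_10_3 : pairChk 10 3 = true := by decide +kernel

set_option maxRecDepth 1000000 in
theorem rel_10_4 : pairChk 10 4 = true := by decide +kernel

set_option maxRecDepth 1000000 in
theorem rel_10_5 : pairChk 10 5 = true := by decide +kernel

set_option maxRecDepth 1000000 in
theorem rel_10_6 : pairChk 10 6 = true := by decide +kernel

set_option maxRecDepth 1000000 in
theorem rel_10_7 : pairChk 10 7 = true := by decide +kernel

set_option maxRecDepth 1000000 in
theorem rel_10_8 : pairChk 10 8 = true := by decide +kernel

set_option maxRecDepth 1000000 in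
theorem rel_10_9 : pairChk 10 9 = true := by decide +kernel

set_option maxRecDepth 1000000 in
theorem sq_10 : sqChk 10 = true := by decide +kernel

set_option maxRecDepth 1000000 in
theorem rel_11_0 : pairChk 11 0 = true := by decide +kernel

set_option maxRecDepth 1000000 in
theorem rel_11_1 : pairChk 11 1 = true := by decide +kernel

set_option maxRecDepth 1000000 in
theorem rel_11_2 : pairChk 11 2 = true := by decide +kernel

set_option maxRecDepth 1000000 in
theorem rel_11_3 : pairChk 11 3 = true := by decide +kernel

set_option maxRecDepth 1000000 in
theorem rel_11_4 : pairChk 11 4 = true := by decide +kernel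

set_option maxRecDepth 1000000 in
theorem rel_11_5 : pairChk 11 5 = true := by decide +kernel

set_option maxRecDepth 1000000 in
theorem rel_11_6 : pairChk 11 6 = true := by decide +kernel

set_option maxRecDepth 1000000 in
theorem rel_11_7 : pairChk 11 7 = true := by decide +kernel

set_option maxRecDepth 1000000 in
theorem rel_11_8 : pairChk 11 8 = true := by decide +kernel

set_option maxRecDepth 1000000 in
theorem rel_11_9 : pairChk 11 9 = true := by decide +kernel

set_option maxRecDepth 1000000 in
theorem rel_11_10 : pairChk 11 10 = true := by decide +kernel

set_option maxRecDepth 1000000 in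
theorem sq_11 : sqChk 11 = true := by decide +kernel

set_option maxRecDepth 1000000 in
theorem rel_12_0 : pairChk 12 0 = true := by decide +kernel

set_option maxRecDepth 1000000 in
theorem rel_12_1 : pairChk 12 1 = true := by decide +kernel

set_option maxRecDepth 1000000 in
theorem rel_12_2 : pairChk 12 2 = true := by decide +kernel

set_option maxRecDepth 1000000 in
theorem rel_12_3 : pairChk 12 3 = true := by decide +kernel

set_option maxRecDepth 1000000 in
theorem rel_12_4 : pairChk 12 4 = true := by decide +kernel

set_option maxRecDepth 1000000 in
theorem rel_12_5 : pairChk 12 5 = true := by decide +kernel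

set_option maxRecDepth 1000000 in
theorem rel_12_6 : pairChk 12 6 = true := by decide +kernel

set_option maxRecDepth 1000000 in
theorem rel_12_7 : pairChk 12 7 = true := by decide +kernel

set_option maxRecDepth 1000000 in
theorem rel_12_8 : pairChk 12 8 = true := by decide +kernel

set_option maxRecDepth 1000000 in
theorem rel_12_9 : pairChk 12 9 = true := by decide +kernel

set_option maxRecDepth 1000000 in
theorem rel_12_10 : pairChk 12 10 = true := by decide +kernel

set_option maxRecDepth 1000000 in
theorem rel_12_11 : pairChk 12 11 = true := by decide +kernel

set_option maxRecDepth 1000000 in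
theorem sq_12 : sqChk 12 = true := by decide +kernel

set_option maxRecDepth 1000000 in
theorem rel_13_0 : pairChk 13 0 = true := by decide +kernel

set_option maxRecDepth 1000000 in
theorem rel_13_1 : pairChk 13 1 = true := by decide +kernel

set_option maxRecDepth 1000000 in
theorem rel_13_2 : pairChk 13 2 = true := by decide +kernel

set_option maxRecDepth 1000000 in
theorem rel_13_3 : pairChk 13 3 = true := by decide +kernel

set_option maxRecDepth 1000000 in
theorem rel_13_4 : pairChk 13 4 = true := by decide +kernel

set_option maxRecDepth 1000000 in
theorem rel_13_5 : pairChk 13 5 = true := by decide +kernel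

set_option maxRecDepth 1000000 in
theorem rel_13_6 : pairChk 13 6 = true := by decide +kernel

set_option maxRecDepth 1000000 in
theorem rel_13_7 : pairChk 13 7 = true := by decide +kernel

set_option maxRecDepth 1000000 in
theorem rel_13_8 : pairChk 13 8 = true := by decide +kernel

set_option maxRecDepth 1000000 in
theorem rel_13_9 : pairChk 13 9 = true := by decide +kernel

set_option maxRecDepth 1000000 in
theorem rel_13_10 : pairChk 13 10 = true := by decide +kernel

set_option maxRecDepth 1000000 in
theorem rel_13_11 : pairChk 13 11 = true := by decide +kernel

set_option maxRecDepth 1000000 in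
theorem rel_13_12 : pairChk 13 12 = true := by decide +kernel

set_option maxRecDepth 1000000 in
theorem sq_13 : sqChk 13 = true := by decide +kernel

end Cfsg.Agent.Helper9.F3O
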