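import Mathlib
import Cfsg.Agent.Helper9.F3O.SylA

set_option autoImplicit false
set_option Elab.async false

/-! The subgroup of order 262144 of the second Fischer group on 31671 points: the conjugates and squares of some of the generators. -/

namespace Cfsg.Agent.Helper9.F3O

open Cfsg.Agent.Helper9.J3 Cfsg.Agent.Helper9.HeO

set_option maxRecDepth 1000000 in
theorem rel_14_0 : pairChk 14 0 = true := by decide +kernel

set_option maxRecDepth 1000000 in
theorem rel_14_1 : pairChk 14 1 = true := by decide +kernel

set_option maxRecDepth 1000000 in
theorem rel_14_2 : pairChk 14 2 = true := by decide +kernel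

set_option maxRecDepth 1000000 in
theorem rel_14_3 : pairChk 14 3 = true := by decide +kernel

set_option maxRecDepth 1000000 in
theorem rel_14_4 : pairChk 14 4 = true := by decide +kernel

set_option maxRecDepth 1000000 in
theorem rel_14_5 : pairChk 14 5 = true := by decide +kernel

set_option maxRecDepth 1000000 in
theorem rel_14_6 : pairChk 14 6 = true := by decide +kernel

set_option maxRecDepth 1000000 in
theorem rel_14_7 : pairChk 14 7 = true := by decide +kernel

set_option maxRecDepth 1000000 in
theorem rel_14_8 : pairChk 14 8 = true := by decide +kernel

set_option maxRecDepth 1000000 in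
theorem rel_14_9 : pairChk 14 9 = true := by decide +kernel

set_option maxRecDepth 1000000 in
theorem rel_14_10 : pairChk 14 10 = true := by decide +kernel

set_option maxRecDepth 1000000 in
theorem rel_14_11 : pairChk 14 11 = true := by decide +kernel

set_option maxRecDepth 1000000 in
theorem rel_14_12 : pairChk 14 12 = true := by decide +kernel

set_option maxRecDepth 1000000 in
theorem rel_14_13 : pairChk 14 13 = true := by decide +kernel

set_option maxRecDepth 1000000 in
theorem sq_14 : sqChk 14 = true := by decide +kernel

set_option maxRecDepth 1000000 in
theorem rel_15_0 : pairChk 15 0 = true := by decide +kernel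

set_option maxRecDepth 1000000 in
theorem rel_15_1 : pairChk 15 1 = true := by decide +kernel

set_option maxRecDepth 1000000 in
theorem rel_15_2 : pairChk 15 2 = true := by decide +kernel

set_option maxRecDepth 1000000 in
theorem rel_15_3 : pairChk 15 3 = true := by decide +kernel

set_option maxRecDepth 1000000 in
theorem rel_15_4 : pairChk 15 4 = true := by decide +kernel

set_option maxRecDepth 1000000 in
theorem rel_15_5 : pairChk 15 5 = true := by decide +kernel

set_option maxRecDepth 1000000 in
theorem rel_15_6 : pairChk 15 6 = true := by decide +kernel

set_option maxRecDepth 1000000 in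
theorem rel_15_7 : pairChk 15 7 = true := by decide +kernel

set_option maxRecDepth 1000000 in
theorem rel_15_8 : pairChk 15 8 = true := by decide +kernel

set_option maxRecDepth 1000000 in
theorem rel_15_9 : pairChk 15 9 = true := by decide +kernel

set_option maxRecDepth 1000000 in
theorem rel_15_10 : pairChk 15 10 = true := by decide +kernel

set_option maxRecDepth 1000000 in
theorem rel_15_11 : pairChk 15 11 = true := by decide +kernel

set_option maxRecDepth 1000000 in
theorem rel_15_12 : pairChk 15 12 = true := by decide +kernel

set_option maxRecDepth 1000000 in
theorem rel_15_13 : pairChk 15 13 = true := by decide +kernel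

set_option maxRecDepth 1000000 in
theorem rel_15_14 : pairChk 15 14 = true := by decide +kernel

set_option maxRecDepth 1000000 in
theorem sq_15 : sqChk 15 = true := by decide +kernel

end Cfsg.Agent.Helper9.F3O
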