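import Mathlib
import Cfsg.Agent.Helper9.F3O.SylA

set_option autoImplicit false
set_option Elab.async false

/-! The subgroup of order 262144 of the second Fischer group on 31671 points: the conjugates and squares of some of the generators. -/

namespace Cfsg.Agent.Helper9.F3O

open Cfsg.Agent.Helper9.J3 Cfsg.Agent.Helper9.HeO

set_option maxRecDepth 1000000 in
theorem rel_16_0 : pairChk 16 0 = true := by decide +kernel

set_option maxRecDepth 1000000 in
theorem rel_16_1 : pairChk 16 1 = true := by decide +kernel

set_option maxRecDepth 1000000 in
theorem rel_16_2 : pairChk 16 2 = true := by decide +kernel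

set_option maxRecDepth 1000000 in
theorem rel_16_3 : pairChk 16 3 = true := by decide +kernel

set_option maxRecDepth 1000000 in
theorem rel_16_4 : pairChk 16 4 = true := by decide +kernel

set_option maxRecDepth 1000000 in
theorem rel_16_5 : pairChk 16 5 = true := by decide +kernel

set_option maxRecDepth 1000000 in
theorem rel_16_6 : pairChk 16 6 = true := by decide +kernel

set_option maxRecDepth 1000000 in
theorem rel_16_7 : pairChk 16 7 = true := by decide +kernel

set_option maxRecDepth 1000000 in
theorem rel_16_8 : pairChk 16 8 = true := by decide +kernel

set_option maxRecDepth 1000000 in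
theorem rel_16_9 : pairChk 16 9 = true := by decide +kernel

set_option maxRecDepth 1000000 in
theorem rel_16_10 : pairChk 16 10 = true := by decide +kernel

set_option maxRecDepth 1000000 in
theorem rel_16_11 : pairChk 16 11 = true := by decide +kernel

set_option maxRecDepth 1000000 in
theorem rel_16_12 : pairChk 16 12 = true := by decide +kernel

set_option maxRecDepth 1000000 in
theorem rel_16_13 : pairChk 16 13 = true := by decide +kernel

set_option maxRecDepth 1000000 in
theorem rel_16_14 : pairChk 16 14 = true := by decide +kernel

set_option maxRecDepth 1000000 in
theorem rel_16_15 : pairChk 16 15 = true := by decide +kernel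

set_option maxRecDepth 1000000 in
theorem sq_16 : sqChk 16 = true := by decide +kernel

set_option maxRecDepth 1000000 in
theorem rel_17_0 : pairChk 17 0 = true := by decide +kernel

set_option maxRecDepth 1000000 in
theorem rel_17_1 : pairChk 17 1 = true := by decide +kernel

set_option maxRecDepth 1000000 in
theorem rel_17_2 : pairChk 17 2 = true := by decide +kernel

set_option maxRecDepth 1000000 in
theorem rel_17_3 : pairChk 17 3 = true := by decide +kernel

set_option maxRecDepth 1000000 in
theorem rel_17_4 : pairChk 17 4 = true := by decide +kernel

set_option maxRecDepth 1000000 in
theorem rel_17_5 : pairChk 17 5 = true := by decide +kernel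

set_option maxRecDepth 1000000 in
theorem rel_17_6 : pairChk 17 6 = true := by decide +kernel

set_option maxRecDepth 1000000 in
theorem rel_17_7 : pairChk 17 7 = true := by decide +kernel

set_option maxRecDepth 1000000 in
theorem rel_17_8 : pairChk 17 8 = true := by decide +kernel

set_option maxRecDepth 1000000 in
theorem rel_17_9 : pairChk 17 9 = true := by decide +kernel

set_option maxRecDepth 1000000 in
theorem rel_17_10 : pairChk 17 10 = true := by decide +kernel

set_option maxRecDepth 1000000 in
theorem rel_17_11 : pairChk 17 11 = true := by decide +kernel

set_option maxRecDepth 1000000 in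
theorem rel_17_12 : pairChk 17 12 = true := by decide +kernel

set_option maxRecDepth 1000000 in
theorem rel_17_13 : pairChk 17 13 = true := by decide +kernel

set_option maxRecDepth 1000000 in
theorem rel_17_14 : pairChk 17 14 = true := by decide +kernel

set_option maxRecDepth 1000000 in
theorem rel_17_15 : pairChk 17 15 = true := by decide +kernel

set_option maxRecDepth 1000000 in
theorem rel_17_16 : pairChk 17 16 = true := by decide +kernel

set_option maxRecDepth 1000000 in
theorem sq_17 : sqChk 17 = true := by decide +kernel

end Cfsg.Agent.Helper9.F3O
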