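import Mathlib
import Cfsg.Agent.Helper9.F3O.SylA

set_option autoImplicit false
set_option Elab.async false

/-! The subgroup of order 262144 of the second Fischer group on 31671 points: the signatures of a part of the sorted list increase. -/

namespace Cfsg.Agent.Helper9.F3O

open Cfsg.Agent.Helper9.J3 Cfsg.Agent.Helper9.HeO

set_option maxRecDepth 1000000 in
theorem srt_b0 : allC srtChk 0 16384 = true := by decide +kernel

set_option maxRecDepth 1000000 in
theorem srt_b1 : allC srtChk 1 16384 = true := by decide +kernel

set_option maxRecDepth 1000000 in
theorem srt_b2 : allC srtChk 2 16384 = true := by decide +kernel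

set_option maxRecDepth 1000000 in
theorem srt_b3 : allC srtChk 3 16384 = true := by decide +kernel

end Cfsg.Agent.Helper9.F3O
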