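import Mathlib
import Cfsg.Agent.Helper9.F3O.SylA

set_option autoImplicit false
set_option Elab.async false

/-! The subgroup of order 262144 of the second Fischer group on 31671 points: the signatures of a part of the sorted list increase. -/

namespace Cfsg.Agent.Helper9.F3O

open Cfsg.Agent.Helper9.J3 Cfsg.Agent.Helper9.HeO

set_option maxRecDepth 1000000 in
theorem srt_b4 : allC srtChk 4 16384 = true := by decide +kernel

set_option maxRecDepth 1000000 in
theorem srt_b5 : allC srtChk 5 16384 = true := by decide +kernel

set_option maxRecDepth 1000000 in
theorem srt_b6 : allC srtChk 6 16384 = true := by decide +kernel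

set_option maxRecDepth 1000000 in
theorem srt_b7 : allC srtChk 7 16384 = true := by decide +kernel

end Cfsg.Agent.Helper9.F3O
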