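import Mathlib
import Cfsg.Agent.Helper9.F3O.SylA
import Cfsg.Agent.Helper9.F3O.SylR0
import Cfsg.Agent.Helper9.F3O.SylR1
import Cfsg.Agent.Helper9.F3O.SylR2
import Cfsg.Agent.Helper9.F3O.SylR3
import Cfsg.Agent.Helper9.F3O.SylS0
import Cfsg.Agent.Helper9.F3O.SylS1
import Cfsg.Agent.Helper9.F3O.SylS2
import Cfsg.Agent.Helper9.F3O.SylS3
import Cfsg.Agent.Helper9.F3O.SylW0
import Cfsg.Agent.Helper9.F3O.SylW1
import Cfsg.Agent.Helper9.F3O.SylW2
import Cfsg.Agent.Helper9.F3O.SylW3

set_option autoImplicit false
set_option Elab.async false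

/-! The subgroup of order 262144 of the second Fischer group on 31671 points: its elements in
normal form, its order and its centre. -/

namespace Cfsg.Agent.Helper9.F3O

open Cfsg.Agent.Helper9.J3 Cfsg.Agent.Helper9.HeO

theorem pair_ok {m k : ℕ} (hm : m < 18) (hk : k < m) : pairChk m k = true := by
  interval_cases m
  · omega
  · interval_cases k
    · exact rel_1_0
  · interval_cases k
    · exact rel_2_0
    · exact rel_2_1
  · interval_cases k
    · exact rel_3_0
    · exact rel_3_1
    · exact rel_3_2
  · interval_cases k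
    · exact rel_4_0
    · exact rel_4_1
    · exact rel_4_2
    · exact rel_4_3
  · interval_cases k
    · exact rel_5_0
    · exact rel_5_1
    · exact rel_5_2
    · exact rel_5_3
    · exact rel_5_4
  · interval_cases k
    · exact rel_6_0
    · exact rel_6_1
    · exact rel_6_2
    · exact rel_6_3
    · exact rel_6_4
    · exact rel_6_5
  · interval_cases k
    · exact rel_7_0
    · exact rel_7_1
    · exact rel_7_2
    · exact rel_7_3
    · exact rel_7_4
    · exact rel_7_5
    · exact rel_7_6
  · interval_cases k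
    · exact rel_8_0
    · exact rel_8_1
    · exact rel_8_2
    · exact rel_8_3
    · exact rel_8_4
    · exact rel_8_5
    · exact rel_8_6
    · exact rel_8_7
  · interval_cases k
    · exact rel_9_0
    · exact rel_9_1
    · exact rel_9_2
    · exact rel_9_3
    · exact rel_9_4
    · exact rel_9_5
    · exact rel_9_6
    · exact rel_9_7
    · exact rel_9_8
  · interval_cases k
    · exact rel_10_0
    · exact rel_10_1
    · exact rel_10_2
    · exact rel_10_3
    · exact rel_10_4
    · exact rel_10_5
    · exact rel_10_6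
    · exact rel_10_7
    · exact rel_10_8
    · exact rel_10_9
  · interval_cases k
    · exact rel_11_0
    · exact rel_11_1
    · exact rel_11_2
    · exact rel_11_3
    · exact rel_11_4
    · exact rel_11_5
    · exact rel_11_6
    · exact rel_11_7
    · exact rel_11_8
    · exact rel_11_9
    · exact rel_11_10
  · interval_cases k
    · exact rel_12_0
    · exact rel_12_1
    · exact rel_12_2
    · exact rel_12_3
    · exact rel_12_4
    · exact rel_12_5
    · exact rel_12_6
    · exact rel_12_7
    · exact rel_12_8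
    · exact rel_12_9
    · exact rel_12_10
    · exact rel_12_11
  · interval_cases k
    · exact rel_13_0
    · exact rel_13_1
    · exact rel_13_2
    · exact rel_13_3
    · exact rel_13_4
    · exact rel_13_5
    · exact rel_13_6
    · exact rel_13_7
    · exact rel_13_8
    · exact rel_13_9
    · exact rel_13_10
    · exact rel_13_11
    · exact rel_13_12
  · interval_cases k
    · exact rel_14_0
    · exact rel_14_1
    · exact rel_14_2
    · exact rel_14_3
    · exact rel_14_4
    · exact rel_14_5
    · exact rel_14_6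
    · exact rel_14_7
    · exact rel_14_8
    · exact rel_14_9
    · exact rel_14_10
    · exact rel_14_11
    · exact rel_14_12
    · exact rel_14_13
  · interval_cases k
    · exact rel_15_0
    · exact rel_15_1
    · exact rel_15_2
    · exact rel_15_3
    · exact rel_15_4
    · exact rel_15_5
    · exact rel_15_6
    · exact rel_15_7
    · exact rel_15_8
    · exact rel_15_9
    · exact rel_15_10
    · exact rel_15_11
    · exact rel_15_12
    · exact rel_15_13
    · exact rel_15_14
  · interval_cases k
    · exact rel_16_0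
    · exact rel_16_1
    · exact rel_16_2
    · exact rel_16_3
    · exact rel_16_4
    · exact rel_16_5
    · exact rel_16_6
    · exact rel_16_7
    · exact rel_16_8
    · exact rel_16_9
    · exact rel_16_10
    · exact rel_16_11
    · exact rel_16_12
    · exact rel_16_13
    · exact rel_16_14
    · exact rel_16_15
  · interval_cases k
    · exact rel_17_0
    · exact rel_17_1
    · exact rel_17_2
    · exact rel_17_3
    · exact rel_17_4
    · exact rel_17_5
    · exact rel_17_6
    · exact rel_17_7
    · exact rel_17_8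
    · exact rel_17_9
    · exact rel_17_10
    · exact rel_17_11
    · exact rel_17_12
    · exact rel_17_13
    · exact rel_17_14
    · exact rel_17_15
    · exact rel_17_16

theorem sq_ok {m : ℕ} (hm : m < 18) : sqChk m = true := by
  interval_cases m
  · exact sq_0
  · exact sq_1
  · exact sq_2
  · exact sq_3
  · exact sq_4
  · exact sq_5
  · exact sq_6
  · exact sq_7
  · exact sq_8
  · exact sq_9
  · exact sq_10
  · exact sq_11
  · exact sq_12
  · exact sq_13
  · exact sq_14
  · exact sq_15
  · exact sq_16
  · exact sq_17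

theorem hG_rel {m k : ℕ} (hm : m < 18) (hk : k < m) :
    hG m * hG k = nfG m (relc m k) * hG m := by
  apply Subtype.ext
  apply perm_ext
  intro p
  rw [Subgroup.coe_mul, Subgroup.coe_mul, Equiv.Perm.mul_apply, Equiv.Perm.mul_apply,
    nfG_apply (by omega), hG_apply hm, hG_apply (by omega), hG_apply hm]
  have h := pair_ok hm hk
  unfold pairChk at h
  rw [sapp_eq] at h
  have h1 := allB_true h p.isLt
  rw [sapp_eq] at h1
  exact Nat.eq_of_beq_eq_true h1

theorem hG_sq {m : ℕ} (hm : m < 18) : hG m * hG m = nfG m (sqc m) := by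
  apply Subtype.ext
  apply perm_ext
  intro p
  rw [Subgroup.coe_mul, Equiv.Perm.mul_apply, nfG_apply (by omega), hG_apply hm, hG_apply hm]
  have h := sq_ok hm
  unfold sqChk at h
  rw [sapp_eq] at h
  have h1 := allB_true h p.isLt
  rw [sapp_eq] at h1
  exact Nat.eq_of_beq_eq_true h1

theorem hG_conj {m k : ℕ} (hm : m < 18) (hk : k < m) :
    hG m * hG k * (hG m)⁻¹ = nfG m (relc m k) := by
  rw [hG_rel hm hk, mul_inv_cancel_right]

/-- the subgroups of the chain. -/
def SH (m : ℕ) : Subgroup ↥F3P := chainH hG m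

theorem mem_SH {m : ℕ} (hm : m ≤ 18) {x : ↥F3P} (hx : x ∈ SH m) :
    ∃ e, e < 2 ^ m ∧ x = nfG m e := by
  refine mem_chain hG m ?_ x hx
  intro m' hm'
  constructor
  · intro k hk
    rw [hG_conj (by omega) hk]
    exact nfE_mem hG m' _
  · rw [hG_sq (by omega)]
    exact nfE_mem hG m' _

/-! ### the normal forms are different -/

theorem srt_b {k : ℕ} (hk : k < 262144) : srtChk k = true := by
  refine allC_true (K := 16) (c := 16384) ?_ (by omega)
  intro i hi
  interval_cases i
  · exact srt_b0
  · exact srt_b1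
  · exact srt_b2
  · exact srt_b3
  · exact srt_b4
  · exact srt_b5
  · exact srt_b6
  · exact srt_b7
  · exact srt_b8
  · exact srt_b9
  · exact srt_b10
  · exact srt_b11
  · exact srt_b12
  · exact srt_b13
  · exact srt_b14
  · exact srt_b15

theorem srt_lt {k : ℕ} (hk : k < 262144) : srt k < 262144 :=
  Nat.lt_succ_of_le (Nat.le_of_ble_eq_true (andB_true (srt_b hk)).1)

theorem srt_step {k : ℕ} (hk : k + 1 < 262144) : sSig (srt k) < sSig (srt (k + 1)) := by
  have h := (andB_true (srt_b (show k < 262144 by omega))).2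
  rcases orB_true h with h1 | h1
  · have := Nat.le_of_ble_eq_true h1
    omega
  · rw [sapp_eq, sapp_eq] at h1
    exact Nat.lt_of_succ_le (Nat.le_of_ble_eq_true h1)

theorem sSig_eq (e : ℕ) : sSig e =
    ((nfG 18 e : Equiv.Perm (Fin nP)) (⟨7797, by norm_num⟩ : Fin nP)).val +
      32768 * ((nfG 18 e : Equiv.Perm (Fin nP)) (⟨431, by norm_num⟩ : Fin nP)).val := by
  rw [nfG_apply le_rfl, nfG_apply le_rfl]
  rfl

theorem srt_inj {k k' : ℕ} (hk : k < 262144) (hk' : k' < 262144) (h : srt k = srt k') :
    k = k' := by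
  apply inj_of_step (f := fun k => sSig (srt k)) (m := 262144) (fun j hj => srt_step hj) hk hk'
  rw [h]

theorem srt_surj {e : ℕ} (he : e < 262144) : ∃ k, k < 262144 ∧ srt k = e := by
  let f : Fin 262144 → Fin 262144 := fun k => ⟨srt k.val, srt_lt k.isLt⟩
  have hf : Function.Injective f := by
    intro k k' h
    exact Fin.ext (srt_inj k.isLt k'.isLt (congrArg Fin.val h))
  obtain ⟨k, hk⟩ := (Finite.injective_iff_surjective.mp hf) ⟨e, he⟩
  exact ⟨k.val, k.isLt, congrArg Fin.val hk⟩

theorem sSig_inj {e e' : ℕ} (he : e < 262144) (he' : e' < 262144) (h : sSig e = sSig e') :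
    e = e' := by
  obtain ⟨k, hk, rfl⟩ := srt_surj he
  obtain ⟨k', hk', rfl⟩ := srt_surj he'
  have : k = k' :=
    inj_of_step (f := fun k => sSig (srt k)) (m := 262144) (fun j hj => srt_step hj) hk hk' h
  rw [this]

/-- the normal forms are different. -/
theorem nfG_inj {e e' : ℕ} (he : e < 262144) (he' : e' < 262144) (h : nfG 18 e = nfG 18 e') :
    e = e' := by
  apply sSig_inj he he'
  rw [sSig_eq, sSig_eq, h]

/-- the order of the subgroup. -/
theorem card_SH : Nat.card (SH 18) = 262144 := by
  let f : Fin 262144 → SH 18 := fun e => ⟨nfG 18 e.val, nfE_mem hG 18 _⟩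
  have hf : Function.Bijective f := by
    constructor
    · intro e e' h
      have h1 : nfG 18 e.val = nfG 18 e'.val := congrArg Subtype.val h
      exact Fin.ext (nfG_inj e.isLt e'.isLt h1)
    · rintro ⟨x, hx⟩
      obtain ⟨e, he, rfl⟩ := mem_SH le_rfl hx
      exact ⟨⟨e, by norm_num at he; exact he⟩, rfl⟩
  rw [← Nat.card_congr (Equiv.ofBijective f hf), Nat.card_fin]

/-! ### small normal forms -/

theorem nfE_of_lt {X : Type*} [Group X] (h : ℕ → X) {j e : ℕ} (he : e < 2 ^ j) (k : ℕ)
    (hk : j ≤ k) : nfE h k e = nfE h j e := by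
  induction k with
  | zero =>
    have : j = 0 := by omega
    subst this
    rfl
  | succ k ih =>
    rcases Nat.lt_or_ge j (k + 1) with hlt | hge
    · have h2 : e < 2 ^ k :=
        lt_of_lt_of_le he (Nat.pow_le_pow_right (by norm_num) (by omega))
      rw [nfE_succ, ih (by omega), bitT_eq, Nat.testBit_lt_two_pow h2]
      simp
    · have : j = k + 1 := by omega
      subst this
      rfl

theorem nfG_zero (m : ℕ) : nfG m 0 = 1 := by
  unfold nfG
  rw [nfE_of_lt hG (j := 0) (by norm_num) m (Nat.zero_le m)]
  rfl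

theorem nfG_one {m : ℕ} (hm : 1 ≤ m) : nfG m 1 = hG 0 := by
  unfold nfG
  rw [nfE_of_lt hG (j := 1) (by norm_num) m hm]
  change (if bitT 1 0 = true then hG 0 else 1) * 1 = hG 0
  have h1 : bitT 1 0 = true := rfl
  rw [if_pos h1, mul_one]

/-- the involution in the centre that has the fewest conjugates. -/
def tG : ↥F3P := hG 0

theorem hG_mem {k : ℕ} (hk : k < 18) : hG k ∈ SH 18 :=
  Subgroup.subset_closure ⟨k, hk, rfl⟩

theorem tG_mem : tG ∈ SH 18 := hG_mem (by norm_num)

theorem tG_apply (p : Fin nP) : ((tG : Equiv.Perm (Fin nP)) p).val = hF 0 p.val :=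
  hG_apply (by norm_num) p

theorem relc_zero {k : ℕ} (hk : k < 18) (hpos : 0 < k) : relc k 0 = 1 := by
  interval_cases k <;> decide +kernel

/-- the involution commutes with the elements of the subgroup. -/
theorem tG_comm {y : ↥F3P} (hy : y ∈ SH 18) : tG * y = y * tG := by
  refine Subgroup.closure_induction (p := fun y _ => tG * y = y * tG) ?_ ?_ ?_ ?_ hy
  · rintro y ⟨k, hk, rfl⟩
    rcases Nat.eq_zero_or_pos k with rfl | hpos
    · rfl
    · have h1 := hG_rel hk hpos
      rw [relc_zero hk hpos, nfG_one hpos] at h1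
      exact h1.symm
  · rw [mul_one, one_mul]
  · intro x y _ _ hx hy
    rw [← mul_assoc, hx, mul_assoc, hy, mul_assoc]
  · intro x _ hx
    rw [eq_inv_mul_iff_mul_eq, ← mul_assoc, ← hx, mul_inv_cancel_right]

theorem tG_ne_one : tG ≠ 1 := by
  intro h
  have h1 := tG_apply (1 : Fin nP)
  rw [h] at h1
  revert h1
  change ¬ (1 = hF 0 1)
  decide +kernel

/-! ### the centre -/

theorem wit_b {e : ℕ} (he : e < 262144) : witChk e = true := by
  refine allC_true (K := 16) (c := 16384) ?_ (by omega)
  intro i hi
  interval_cases i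
  · exact wit_b0
  · exact wit_b1
  · exact wit_b2
  · exact wit_b3
  · exact wit_b4
  · exact wit_b5
  · exact wit_b6
  · exact wit_b7
  · exact wit_b8
  · exact wit_b9
  · exact wit_b10
  · exact wit_b11
  · exact wit_b12
  · exact wit_b13
  · exact wit_b14
  · exact wit_b15

theorem not_comm_of_ncChk {e k p : ℕ} (hk : k < 18) (hp : p < nP) (h : ncChk e k p = true) :
    nfG 18 e * hG k ≠ hG k * nfG 18 e := by
  intro h3
  have h2 := notB_true h
  rw [sapp_eq] at h2
  have h4 := congrArg (fun g : ↥F3P => ((g : Equiv.Perm (Fin nP)) ⟨p, hp⟩).val) h3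
  simp only [Subgroup.coe_mul, Equiv.Perm.mul_apply] at h4
  rw [nfG_apply le_rfl, hG_apply hk, hG_apply hk, nfG_apply le_rfl] at h4
  change nfF 18 e (hF k p) = hF k (nfF 18 e p) at h4
  rw [h4, Nat.beq_refl] at h2
  exact Bool.noConfusion h2

/-- an element of the centre of the subgroup is one of four normal forms. -/
theorem center_cases {x : ↥F3P} (hx : x ∈ SH 18) (hc : ∀ y ∈ SH 18, x * y = y * x) :
    x = 1 ∨ x = tG ∨ x = nfG 18 2 ∨ x = nfG 18 3 := by
  obtain ⟨e, he, rfl⟩ := mem_SH le_rfl hx
  have he' : e < 262144 := by norm_num at he; exact he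
  rcases orB_true (wit_b he') with h1 | h1
  · have h2 := Nat.le_of_ble_eq_true h1
    interval_cases e
    · exact Or.inl (nfG_zero 18)
    · exact Or.inr (Or.inl (nfG_one (by norm_num)))
    · exact Or.inr (Or.inr (Or.inl rfl))
    · exact Or.inr (Or.inr (Or.inr rfl))
  · exfalso
    rw [sapp_eq, sapp_eq, sapp_eq] at h1
    obtain ⟨hk, h1⟩ := andB_true h1
    obtain ⟨hp, h2⟩ := andB_true h1
    have hk' : Nat.land (wit e) 31 < 18 := Nat.lt_succ_of_le (Nat.le_of_ble_eq_true hk)
    have hp' : Nat.shiftRight (wit e) 5 < nP := Nat.lt_succ_of_le (Nat.le_of_ble_eq_true hp)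
    exact not_comm_of_ncChk hk' hp' h2 (hc _ (hG_mem hk'))

end Cfsg.Agent.Helper9.F3O
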