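import Mathlib
import Cfsg.Prelude
import Cfsg.Agent.S1689
import Cfsg.Agent.S1697
import Cfsg.Agent.Helper9.F3O.Iso
import Cfsg.Agent.Helper9.F3O.Cen
import Cfsg.Agent.Helper9.HeO.Abs

set_option autoImplicit false
set_option Elab.async false

/-! The involution in the centre of the subgroup of order 262144 of the second Fischer group on
31671 points has at most 31671 conjugates: in the presented group the subgroup of index 31671
centralizes it. The second generator is a conjugate of it. -/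

namespace Cfsg.Agent.Helper9.F3O

open Cfsg.Agent.Helper9.J3 Cfsg.Agent.Helper9.HeO Cfsg Cfsg.Spor

/-- the presented group is simple of its order. -/
theorem isFi23 : IsFi23 Fi23 := Cfsg.Agent.S1697.result

theorem phi_inj : Function.Injective phi := phi_injective isFi23.1

theorem card_F3P : Nat.card ↥F3P = 4089470473293004800 := (isFi23_F3P isFi23).2

theorem finite_F3P : Finite ↥F3P := Nat.finite_of_card_ne_zero (by rw [card_F3P]; norm_num)

/-- the relators of the presented group. -/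
abbrev rels23 : Set (FreeGroup Fi23.Gen) := coxRelators Fi23.edges ∪ {r | r ∈ Fi23.extra}

/-- the subgroup of index 31671 of the presented group. -/
def HS23 : Subgroup Fi23 :=
  (Subgroup.closure ({Fi23.a, Fi23.b, Fi23.c, Fi23.d, Fi23.e, Fi23.f, Fi23.g, Fi23.h,
    Fi23.i} : Set (FreeGroup Fi23.Gen))).map (PresentedGroup.mk rels23)

theorem index_HS23 : HS23.index = 31671 := Cfsg.Agent.S1689.result.1

/-- the letters other than the eighth. -/
def cL : List ℕ := [0, 1, 2, 3, 4, 5, 6, 8, 9]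

theorem cL_lt : ∀ l ∈ cL, l < 10 := by decide

set_option maxRecDepth 1000000 in
theorem cL_comm_b : cL.all (fun l =>
    allB (fun x => Nat.beq (tabF l (hF 0 x)) (hF 0 (tabF l x))) nP) = true := by
  decide +kernel

theorem cL_comm {l : ℕ} (hl : l ∈ cL) : P l * tG.1 = tG.1 * P l := by
  have hl10 := cL_lt l hl
  apply perm_ext
  intro p
  have h := allB_true (List.all_eq_true.1 cL_comm_b l hl) p.isLt
  have h1 : ((P l * tG.1) p).val = tabF l (hF 0 p.val) := by
    rw [Equiv.Perm.mul_apply, P_apply, tab_of_lt hl10]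
    exact congrArg (tabF l) (tG_apply p)
  have h2 : ((tG.1 * P l) p).val = hF 0 (tabF l p.val) := by
    rw [Equiv.Perm.mul_apply]
    have := tG_apply (P l p)
    rw [P_apply, tab_of_lt hl10] at this
    exact this
  rw [h1, h2]
  exact Nat.eq_of_beq_eq_true h

/-- the involution of the presented group. -/
def gT : Fi23 :=
  PresentedGroup.mk rels23
    ((Fi23.b * Fi23.c * Fi23.d * Fi23.e * Fi23.f * Fi23.g * Fi23.h) ^ 9)

theorem phi_mk_of (x : Fi23.Gen) :
    phi (PresentedGroup.mk rels23 (FreeGroup.of x)) = P (idx x).val :=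
  phi_of x

theorem hWL_zero : nthW hWL 0 = wpow [1, 2, 3, 4, 5, 6, 8] 9 := by decide +kernel

theorem phi_gT : phi gT = tG.1 := by
  change _ = permW (nthW hWL 0)
  rw [hWL_zero, permW_wpow]
  unfold gT
  simp only [map_pow, map_mul, Fi23.b, Fi23.c, Fi23.d, Fi23.e, Fi23.f, Fi23.g, Fi23.h, phi_mk_of]
  simp only [permW_cons, permW_nil, mul_one, mul_assoc]
  rfl

theorem comm_of_phi {x : Fi23} (h : phi x * tG.1 = tG.1 * phi x) : x * gT = gT * x := by
  apply phi_inj
  rw [map_mul, map_mul, phi_gT]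
  exact h

/-- the subgroup of index 31671 centralizes the involution. -/
theorem HS23_le : HS23 ≤ Subgroup.centralizer ({gT} : Set Fi23) := by
  unfold HS23
  rw [Subgroup.map_le_iff_le_comap, Subgroup.closure_le]
  intro g hg
  change PresentedGroup.mk rels23 g ∈ Subgroup.centralizer ({gT} : Set Fi23)
  rw [Subgroup.mem_centralizer_singleton_iff]
  apply comm_of_phi
  simp only [Set.mem_insert_iff, Set.mem_singleton_iff] at hg
  rcases hg with rfl | rfl | rfl | rfl | rfl | rfl | rfl | rfl | rfl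
  · rw [phi_mk_of]
    exact cL_comm (by decide)
  · rw [phi_mk_of]
    exact cL_comm (by decide)
  · rw [phi_mk_of]
    exact cL_comm (by decide)
  · rw [phi_mk_of]
    exact cL_comm (by decide)
  · rw [phi_mk_of]
    exact cL_comm (by decide)
  · rw [phi_mk_of]
    exact cL_comm (by decide)
  · rw [phi_mk_of]
    exact cL_comm (by decide)
  · rw [phi_mk_of]
    exact cL_comm (by decide)
  · rw [phi_mk_of]
    exact cL_comm (by decide)

/-- the involution of the presented group has at most 31671 conjugates. -/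
theorem card_class_gT_le : {y : Fi23 | ∃ g : Fi23, g * gT * g⁻¹ = y}.ncard ≤ 31671 := by
  have hc : Nat.card Fi23 = 4089470473293004800 := isFi23.2
  have : Finite Fi23 := Nat.finite_of_card_ne_zero (by rw [hc]; norm_num)
  have h1 := card_class_mul gT
  have h2 := Subgroup.index_mul_card HS23
  rw [index_HS23] at h2
  have h3 := Subgroup.card_le_of_le HS23_le
  have h4 : 0 < Nat.card (Subgroup.centralizer ({gT} : Set Fi23)) := Nat.card_pos
  set c := Nat.card (Subgroup.centralizer ({gT} : Set Fi23)) with hcdef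
  set k := {y : Fi23 | ∃ g : Fi23, g * gT * g⁻¹ = y}.ncard with hkdef
  set m := Nat.card ↥HS23 with hmdef
  by_contra hk
  rw [not_le] at hk
  have h5 : c * k > 31671 * m := by
    calc 31671 * m ≤ 31671 * c := Nat.mul_le_mul_left _ h3
      _ = c * 31671 := Nat.mul_comm _ _
      _ < c * k := Nat.mul_lt_mul_of_pos_left hk h4
  omega

/-- the homomorphism from the presented group onto the group on 31671 points. -/
def psi : Fi23 →* ↥F3P := phi.codRestrict F3P (fun x => by rw [← range_phi]; exact ⟨x, rfl⟩)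

theorem psi_val (x : Fi23) : (psi x).1 = phi x := rfl

theorem psi_gT : psi gT = tG := Subtype.ext phi_gT

theorem psi_surj : Function.Surjective psi := by
  rintro ⟨y, hy⟩
  rw [← range_phi] at hy
  obtain ⟨x, rfl⟩ := hy
  exact ⟨x, rfl⟩

/-- the involution has at most 31671 conjugates. -/
theorem card_class_tG_le : {y : ↥F3P | ∃ g : ↥F3P, g * tG * g⁻¹ = y}.ncard ≤ 31671 := by
  have hc : Nat.card Fi23 = 4089470473293004800 := isFi23.2
  have : Finite Fi23 := Nat.finite_of_card_ne_zero (by rw [hc]; norm_num)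
  have hsub : {y : ↥F3P | ∃ g : ↥F3P, g * tG * g⁻¹ = y} ⊆
      psi '' {y : Fi23 | ∃ g : Fi23, g * gT * g⁻¹ = y} := by
    rintro y ⟨g, rfl⟩
    obtain ⟨g', rfl⟩ := psi_surj g
    refine ⟨g' * gT * g'⁻¹, ⟨g', rfl⟩, ?_⟩
    rw [map_mul, map_mul, map_inv, psi_gT]
  calc {y : ↥F3P | ∃ g : ↥F3P, g * tG * g⁻¹ = y}.ncard
      ≤ (psi '' {y : Fi23 | ∃ g : Fi23, g * gT * g⁻¹ = y}).ncard :=
        Set.ncard_le_ncard hsub (Set.toFinite _)
    _ ≤ {y : Fi23 | ∃ g : Fi23, g * gT * g⁻¹ = y}.ncard := Set.ncard_image_le (Set.toFinite _)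
    _ ≤ 31671 := card_class_gT_le

/-! ### the second generator is a conjugate of the involution -/

set_option maxRecDepth 1000000 in
theorem braid_b : allB (fun x => andB (Nat.beq (hF 0 (hF 0 x)) x)
    (Nat.beq (hF 0 (tabF 7 (hF 0 x))) (tabF 7 (hF 0 (tabF 7 x))))) nP = true := by
  decide +kernel

theorem tP_mul_self : tG.1 * tG.1 = 1 := by
  apply perm_ext
  intro p
  rw [Equiv.Perm.mul_apply]
  have h1 := tG_apply (tG.1 p)
  rw [tG_apply p] at h1
  rw [h1]
  exact Nat.eq_of_beq_eq_true (andB_true (allB_true braid_b p.isLt)).1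

theorem tP_inv : (tG.1)⁻¹ = tG.1 := inv_eq_of_mul_eq_one_left tP_mul_self

theorem braid : tG.1 * P 7 * tG.1 = P 7 * tG.1 * P 7 := by
  apply perm_ext
  intro p
  have h := (andB_true (allB_true braid_b p.isLt)).2
  have h1 : ((tG.1 * P 7 * tG.1) p).val = hF 0 (tabF 7 (hF 0 p.val)) := by
    rw [Equiv.Perm.mul_apply, Equiv.Perm.mul_apply]
    have e1 := tG_apply (P 7 (tG.1 p))
    rw [P_apply, tab_of_lt (by norm_num), tG_apply p] at e1
    exact e1
  have h2 : ((P 7 * tG.1 * P 7) p).val = tabF 7 (hF 0 (tabF 7 p.val)) := by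
    rw [Equiv.Perm.mul_apply, Equiv.Perm.mul_apply, P_apply, tab_of_lt (by norm_num)]
    have e1 := tG_apply (P 7 p)
    rw [P_apply, tab_of_lt (by norm_num)] at e1
    rw [e1]
  rw [h1, h2]
  exact Nat.eq_of_beq_eq_true h

theorem P7_conj : (tG.1 * P 7) * tG.1 * (tG.1 * P 7)⁻¹ = P 7 := by
  rw [mul_inv_rev, P_inv, tP_inv]
  calc tG.1 * P 7 * tG.1 * (P 7 * tG.1) = (tG.1 * P 7 * tG.1) * P 7 * tG.1 := by
        simp only [mul_assoc]
    _ = (P 7 * tG.1 * P 7) * P 7 * tG.1 := by rw [braid]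
    _ = P 7 * (tG.1 * ((P 7 * P 7) * tG.1)) := by simp only [mul_assoc]
    _ = P 7 := by rw [P_mul_self, one_mul, tP_mul_self, mul_one]

theorem bW_eq : bW = [0, 1, 2, 3, 4, 5, 6] ++ [7] ++ [0, 1, 2, 3, 4, 5, 6].reverse := by
  decide +kernel

/-- the second generator is a conjugate of the involution. -/
theorem bG_conj : ∃ u : ↥F3P, u * tG * u⁻¹ = bG := by
  refine ⟨⟨permW [0, 1, 2, 3, 4, 5, 6], permW_mem _⟩ * (tG * ⟨P 7, P_mem 7⟩), ?_⟩
  apply Subtype.ext
  change permW [0, 1, 2, 3, 4, 5, 6] * (tG.1 * P 7) * tG.1 *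
    (permW [0, 1, 2, 3, 4, 5, 6] * (tG.1 * P 7))⁻¹ = permW bW
  rw [bW_eq, permW_append, permW_append, permW_reverse, permW_one]
  have h := P7_conj
  calc permW [0, 1, 2, 3, 4, 5, 6] * (tG.1 * P 7) * tG.1 *
        (permW [0, 1, 2, 3, 4, 5, 6] * (tG.1 * P 7))⁻¹
      = permW [0, 1, 2, 3, 4, 5, 6] * ((tG.1 * P 7) * tG.1 * (tG.1 * P 7)⁻¹) *
        (permW [0, 1, 2, 3, 4, 5, 6])⁻¹ := by group
    _ = _ := by rw [h]

/-- the second generator has at most 31671 conjugates. -/
theorem card_class_le : {y : ↥F3P | ∃ g : ↥F3P, g * bG * g⁻¹ = y}.ncard ≤ 31671 := by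
  obtain ⟨u, hu⟩ := bG_conj
  rw [← hu, class_conj]
  exact card_class_tG_le

end Cfsg.Agent.Helper9.F3O
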