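import Mathlib
import Cfsg.Agent.Helper9.F3O.Cen
import Cfsg.Agent.Helper9.F3O.DataE

set_option autoImplicit false
set_option Elab.async false

/-! The normal elementary abelian subgroups of the subgroup of order 262144 of the second Fischer
group on 31671 points: the definitions of the checks, and what they give. -/

namespace Cfsg.Agent.Helper9.F3O

open Cfsg.Agent.Helper9.J3 Cfsg.Agent.Helper9.HeO

/-- the first point of the signature. -/
def bp1 : Fin nP := ⟨7797, by norm_num⟩

/-- the second point of the signature. -/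
def bp2 : Fin nP := ⟨431, by norm_num⟩

/-- elements of the subgroup of order 262144 that agree at the two points of the signature are
equal. -/
theorem eq_of_sig {x y : ↥F3P} (hx : x ∈ SH 18) (hy : y ∈ SH 18)
    (h1 : ((x : Equiv.Perm (Fin nP)) bp1).val = ((y : Equiv.Perm (Fin nP)) bp1).val)
    (h2 : ((x : Equiv.Perm (Fin nP)) bp2).val = ((y : Equiv.Perm (Fin nP)) bp2).val) : x = y := by
  obtain ⟨e, he, rfl⟩ := mem_SH le_rfl hx
  obtain ⟨e', he', rfl⟩ := mem_SH le_rfl hy
  have he2 : e < 262144 := by norm_num at he; exact he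
  have he2' : e' < 262144 := by norm_num at he'; exact he'
  have h : sSig e = sSig e' := by
    rw [sSig_eq, sSig_eq]
    change ((nfG 18 e : Equiv.Perm (Fin nP)) bp1).val + 32768 *
      ((nfG 18 e : Equiv.Perm (Fin nP)) bp2).val = ((nfG 18 e' : Equiv.Perm (Fin nP)) bp1).val +
      32768 * ((nfG 18 e' : Equiv.Perm (Fin nP)) bp2).val
    rw [h1, h2]
  rw [sSig_inj he2 he2' h]

theorem nfG_mem (e : ℕ) : nfG 18 e ∈ SH 18 := nfE_mem hG 18 e

theorem nfG_fn (e : ℕ) (p : Fin nP) :
    ((nfG 18 e : Equiv.Perm (Fin nP)) p).val = nfF 18 e p.val := nfG_apply le_rfl e p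

theorem nfG_mul_fn (a b : ℕ) (p : Fin nP) :
    (((nfG 18 a * nfG 18 b : ↥F3P) : Equiv.Perm (Fin nP)) p).val = nfF 18 a (nfF 18 b p.val) := by
  rw [Subgroup.coe_mul, Equiv.Perm.mul_apply, nfG_fn, nfG_fn]

/-- the check that two products of two elements agree at the points of the signature. -/
def mulChk (a b c d : ℕ) : Bool :=
  andB (Nat.beq (nfF 18 a (nfF 18 b 7797)) (nfF 18 c (nfF 18 d 7797)))
    (Nat.beq (nfF 18 a (nfF 18 b 431)) (nfF 18 c (nfF 18 d 431)))

theorem mulChk_true {a b c d : ℕ} (h : mulChk a b c d = true) :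
    nfG 18 a * nfG 18 b = nfG 18 c * nfG 18 d := by
  obtain ⟨h1, h2⟩ := andB_true h
  apply eq_of_sig (Subgroup.mul_mem _ (nfG_mem a) (nfG_mem b))
    (Subgroup.mul_mem _ (nfG_mem c) (nfG_mem d))
  · rw [nfG_mul_fn, nfG_mul_fn]
    exact Nat.eq_of_beq_eq_true h1
  · rw [nfG_mul_fn, nfG_mul_fn]
    exact Nat.eq_of_beq_eq_true h2

/-! ### the witnesses -/

/-- the check that the square of an element moves a point. -/
def sqW (e p : ℕ) : Bool :=
  andB (Nat.ble p 31670) (notB (Nat.beq (nfF 18 e (sapp (nfF 18 e) p)) p))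

theorem sqW_sound {e p : ℕ} (h : sqW e p = true) : nfG 18 e * nfG 18 e ≠ 1 := by
  obtain ⟨h1, h2⟩ := andB_true h
  have hp : p < nP := Nat.lt_succ_of_le (Nat.le_of_ble_eq_true h1)
  have h3 := notB_true h2
  rw [sapp_eq] at h3
  intro hsq
  have h4 := nfG_mul_fn e e ⟨p, hp⟩
  rw [hsq] at h4
  change p = nfF 18 e (nfF 18 e p) at h4
  rw [← h4, Nat.beq_refl] at h3
  exact Bool.noConfusion h3

/-- the check that an element does not commute with a conjugate of a second element: the
conjugating element and two points. -/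
def ncW (e x w : ℕ) : Bool :=
  sapp (fun u => sapp (fun q => sapp (fun r =>
    andB (Nat.ble q 31670) (andB (Nat.ble r 31670)
      (andB (Nat.beq (nfF 18 u r) (nfF 18 e (nfF 18 u q)))
        (notB (Nat.beq (nfF 18 e (nfF 18 u (nfF 18 x q))) (nfF 18 u (nfF 18 x r)))))))
    (Nat.shiftRight w 33)) (Nat.land (Nat.shiftRight w 18) 32767)) (Nat.land w 262143)

theorem ncW_sound {e x w : ℕ} (h : ncW e x w = true) :
    ∃ u ∈ SH 18, nfG 18 e * (u * nfG 18 x * u⁻¹) ≠ u * nfG 18 x * u⁻¹ * nfG 18 e := by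
  unfold ncW at h
  rw [sapp_eq, sapp_eq, sapp_eq] at h
  generalize Nat.land w 262143 = u at h
  generalize Nat.land (Nat.shiftRight w 18) 32767 = q at h
  generalize Nat.shiftRight w 33 = r at h
  obtain ⟨hq, h⟩ := andB_true h
  obtain ⟨hr, h⟩ := andB_true h
  obtain ⟨h1, h2⟩ := andB_true h
  have hq' : q < nP := Nat.lt_succ_of_le (Nat.le_of_ble_eq_true hq)
  have hr' : r < nP := Nat.lt_succ_of_le (Nat.le_of_ble_eq_true hr)
  have h1' := Nat.eq_of_beq_eq_true h1
  have h2' := notB_true h2
  refine ⟨nfG 18 u, nfG_mem u, ?_⟩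
  intro heq
  -- the permutations
  set U : Equiv.Perm (Fin nP) := (nfG 18 u : Equiv.Perm (Fin nP)) with hU
  set Y : Equiv.Perm (Fin nP) := (nfG 18 e : Equiv.Perm (Fin nP)) with hY
  set X : Equiv.Perm (Fin nP) := (nfG 18 x : Equiv.Perm (Fin nP)) with hX
  have hperm : Y * (U * X * U⁻¹) = U * X * U⁻¹ * Y := by
    have := congrArg (fun g : ↥F3P => (g : Equiv.Perm (Fin nP))) heq
    simpa only [Subgroup.coe_mul, Subgroup.coe_inv] using this
  have hUr : U ⟨r, hr'⟩ = Y (U ⟨q, hq'⟩) := by
    apply Fin.ext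
    rw [hU, hY, nfG_fn, nfG_fn, nfG_fn]
    exact h1'
  have e1 : U⁻¹ (U ⟨q, hq'⟩) = ⟨q, hq'⟩ := by
    rw [Equiv.Perm.inv_def, Equiv.symm_apply_apply]
  have e2 : U⁻¹ (Y (U ⟨q, hq'⟩)) = ⟨r, hr'⟩ := by
    rw [← hUr, Equiv.Perm.inv_def, Equiv.symm_apply_apply]
  have h3 := congrArg (fun σ : Equiv.Perm (Fin nP) => (σ (U ⟨q, hq'⟩)).val) hperm
  simp only [Equiv.Perm.mul_apply] at h3
  rw [e1, e2] at h3
  rw [hU, hY, hX, nfG_fn, nfG_fn, nfG_fn, nfG_fn, nfG_fn] at h3
  change nfF 18 e (nfF 18 u (nfF 18 x q)) = nfF 18 u (nfF 18 x r) at h3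
  rw [h3, Nat.beq_refl] at h2'
  exact Bool.noConfusion h2'

/-! ### the tables -/

/-- the kind and the witness of an element. -/
def clsE (e : ℕ) : ℕ := lkF 20 1048575 (nthL clsT (Nat.shiftRight e 11)) (Nat.land e 2047)

/-- a witness of an involution that does not commute with a conjugate. -/
def nc2 (j : ℕ) : ℕ := lkF 48 281474976710655 (nthL nc2T (Nat.shiftRight j 9)) (Nat.land j 511)

/-- an element of the elementary abelian subgroup of order 2048. -/
def eE (b : ℕ) : ℕ := lkF 18 262143 eET b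

/-- a generator of the elementary abelian subgroup of order 2048. -/
def cE (i : ℕ) : ℕ := lkF 18 262143 basisE i

/-- the entry of a further involution. -/
def xE (j : ℕ) : ℕ := lkF 28 268435455 xT j

/-- the representative of a class of the further involutions. -/
def x0 (c : ℕ) : ℕ := lkF 18 262143 x0T c

/-- the check that an element is the conjugate of a representative of a class of the further
involutions. -/
def xChk (e w : ℕ) : Bool :=
  sapp (fun c => sapp (fun t => andB (Nat.ble c 3) (andB (Nat.ble t 262143)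
    (sapp (fun y => mulChk e t t y) (x0 c))))
    (Nat.land (Nat.shiftRight w 2) 262143)) (Nat.land w 3)

/-- the check of an element: the kinds are the neutral element, an element whose square is not
the neutral element, an involution that does not commute with a conjugate, an element of the
elementary abelian subgroup of order 2048, a further involution. -/
def chk1 (e : ℕ) : Bool :=
  sapp (fun t => sapp (fun v =>
    Nat.rec (Nat.beq e 0) (fun k1 _ => Nat.rec (sqW e v) (fun k2 _ =>
      Nat.rec (sapp (fun w => ncW e e w) (nc2 v)) (fun k3 _ =>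
        Nat.rec (andB (Nat.ble v 2047) (Nat.beq (eE v) e)) (fun k4 _ =>
          Nat.rec (andB (Nat.ble v 127) (sapp (fun w => xChk e w) (xE v))) (fun _ _ => false) k4)
          k3) k2) k1) (Nat.land t 7)) (Nat.shiftRight t 3)) (clsE e)

/-- the check of an element, after the element is computed. -/
def chk1S (e : ℕ) : Bool := sapp chk1 e

/-- what the check of an element gives. -/
theorem chk1_sound {e : ℕ} (h : chk1 e = true) (hsq : nfG 18 e * nfG 18 e = 1)
    (hcomm : ∀ u ∈ SH 18, nfG 18 e * (u * nfG 18 e * u⁻¹) = u * nfG 18 e * u⁻¹ * nfG 18 e) :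
    e = 0 ∨ (∃ b, b < 2048 ∧ eE b = e) ∨
      ∃ j, j < 128 ∧ xChk e (xE j) = true := by
  unfold chk1 at h
  rw [sapp_eq, sapp_eq] at h
  generalize Nat.shiftRight (clsE e) 3 = v at h
  generalize Nat.land (clsE e) 7 = k at h
  rcases k with _ | _ | _ | _ | _ | k
  · exact Or.inl (Nat.eq_of_beq_eq_true h)
  · exact absurd hsq (sqW_sound h)
  · exfalso
    change sapp (fun w => ncW e e w) (nc2 v) = true at h
    rw [sapp_eq] at h
    obtain ⟨u, hu, hne⟩ := ncW_sound h
    exact hne (hcomm u hu)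
  · change andB (Nat.ble v 2047) (Nat.beq (eE v) e) = true at h
    obtain ⟨h1, h2⟩ := andB_true h
    exact Or.inr (Or.inl ⟨v, Nat.lt_succ_of_le (Nat.le_of_ble_eq_true h1),
      Nat.eq_of_beq_eq_true h2⟩)
  · change andB (Nat.ble v 127) (sapp (fun w => xChk e w) (xE v)) = true at h
    obtain ⟨h1, h2⟩ := andB_true h
    rw [sapp_eq] at h2
    exact Or.inr (Or.inr ⟨v, Nat.lt_succ_of_le (Nat.le_of_ble_eq_true h1), h2⟩)
  · exact Bool.noConfusion h

end Cfsg.Agent.Helper9.F3O
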