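import Mathlib
import Cfsg.Agent.Helper9.F3O.ElA

set_option autoImplicit false
set_option Elab.async false

/-! The elementary abelian subgroup of order 2048 of the subgroup of order 262144 of the second
Fischer group on 31671 points: it is normalized by the subgroup of order 262144; its elements
that commute with the conjugates of one of four further involutions. -/

namespace Cfsg.Agent.Helper9.F3O

open Cfsg.Agent.Helper9.J3 Cfsg.Agent.Helper9.HeO

/-- a generator of the elementary abelian subgroup. -/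
def gE (i : ℕ) : ↥F3P := nfG 18 (cE i)

/-- the elementary abelian subgroup of order 2048. -/
def EE : Subgroup ↥F3P := chainH gE 11

/-- the image of a point under a product of generators of the elementary abelian subgroup. -/
def evE (m b x : ℕ) : ℕ :=
  Nat.rec x (fun i acc => Bool.rec acc (sapp (fun c => nfF 18 c acc) (cE i)) (bitT b i)) m

theorem evE_succ (m b x : ℕ) : evE (m + 1) b x =
    Bool.rec (evE m b x) (sapp (fun c => nfF 18 c (evE m b x)) (cE m)) (bitT b m) := rfl

theorem prodE_apply (m b : ℕ) (p : Fin nP) :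
    (((nfE gE m b : ↥F3P) : Equiv.Perm (Fin nP)) p).val = evE m b p.val := by
  induction m with
  | zero => rfl
  | succ m ih =>
    rw [nfE_succ, evE_succ]
    cases hb : bitT b m
    · rw [if_neg (by simp), one_mul]
      exact ih
    · rw [if_pos rfl, Subgroup.coe_mul, Equiv.Perm.mul_apply]
      change ((nfG 18 (cE m) : Equiv.Perm (Fin nP)) _).val =
        sapp (fun c => nfF 18 c (evE m b p.val)) (cE m)
      rw [sapp_eq, nfG_fn, ih]

theorem gE_mem (i : ℕ) : gE i ∈ SH 18 := nfG_mem _

theorem EE_le : EE ≤ SH 18 := by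
  unfold EE chainH
  rw [Subgroup.closure_le]
  rintro x ⟨k, -, rfl⟩
  exact gE_mem k

theorem prodE_mem (m b : ℕ) : nfE gE m b ∈ SH 18 := by
  have h1 : nfE gE m b ∈ chainH gE m := nfE_mem gE m b
  have h2 : chainH gE m ≤ SH 18 := by
    unfold chainH
    rw [Subgroup.closure_le]
    rintro x ⟨k, -, rfl⟩
    exact gE_mem k
  exact h2 h1

/-! ### the generators commute and are involutions -/

/-- the check that a generator is an involution and commutes with the earlier generators. -/
def gensChk (m : ℕ) : Bool :=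
  sapp (fun a => andB (mulChk a a 0 0)
    (allB (fun k => sapp (fun c => mulChk a c c a) (cE k)) m)) (cE m)

set_option maxRecDepth 1000000 in
theorem gens_b : allB gensChk 11 = true := by decide +kernel

theorem gE_sq {m : ℕ} (hm : m < 11) : gE m * gE m = 1 := by
  have h := allB_true gens_b hm
  unfold gensChk at h
  rw [sapp_eq] at h
  have h1 := mulChk_true (andB_true h).1
  rw [nfG_zero, one_mul] at h1
  exact h1

theorem gE_comm_lt {m k : ℕ} (hm : m < 11) (hk : k < m) : gE m * gE k = gE k * gE m := by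
  have h := allB_true gens_b hm
  unfold gensChk at h
  rw [sapp_eq] at h
  have h1 := allB_true (andB_true h).2 hk
  rw [sapp_eq] at h1
  exact mulChk_true h1

theorem gE_comm {m k : ℕ} (hm : m < 11) (hk : k < 11) : gE m * gE k = gE k * gE m := by
  rcases Nat.lt_trichotomy k m with h | h | h
  · exact gE_comm_lt hm h
  · rw [h]
  · exact (gE_comm_lt hk h).symm

theorem mem_EE {x : ↥F3P} (hx : x ∈ EE) : ∃ b, b < 2048 ∧ x = nfE gE 11 b := by
  have h := mem_chain gE 11 ?_ x hx
  · obtain ⟨b, hb, rfl⟩ := h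
    exact ⟨b, by norm_num at hb; exact hb, rfl⟩
  · intro m' hm'
    constructor
    · intro k hk
      rw [gE_comm_lt hm' hk, mul_inv_cancel_right]
      exact Subgroup.subset_closure ⟨k, hk, rfl⟩
    · rw [gE_sq hm']
      exact Subgroup.one_mem _

theorem EE_comm : ∀ a ∈ EE, ∀ b ∈ EE, a * b = b * a := by
  have h : IsMulCommutative ↥(Subgroup.closure {x : ↥F3P | ∃ k, k < 11 ∧ x = gE k}) := by
    apply Subgroup.isMulCommutative_closure
    rintro x ⟨k, hk, rfl⟩ y ⟨m, hm, rfl⟩
    exact gE_comm hk hm
  exact isMulCommutative_iff_of_setLike.mp h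

/-! ### the elements of the elementary abelian subgroup -/

/-- the check of an element of the elementary abelian subgroup: its normal form, which is an
involution or the neutral element, and its kind. -/
def eEChk (b : ℕ) : Bool :=
  sapp (fun c => andB (Nat.ble c 262143)
    (andB (Nat.beq (evE 11 b 7797) (nfF 18 c 7797))
      (andB (Nat.beq (evE 11 b 431) (nfF 18 c 431))
        (andB (mulChk c c 0 0) (Nat.beq (clsE c) (Nat.add 3 (Nat.mul 8 b))))))) (eE b)

set_option maxRecDepth 1000000 in
theorem eE_b : allB eEChk 2048 = true := by decide +kernel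

theorem eE_facts {b : ℕ} (hb : b < 2048) :
    eE b < 262144 ∧ nfE gE 11 b = nfG 18 (eE b) ∧ nfG 18 (eE b) * nfG 18 (eE b) = 1 ∧
      clsE (eE b) = 3 + 8 * b := by
  have h := allB_true eE_b hb
  unfold eEChk at h
  rw [sapp_eq] at h
  obtain ⟨h1, h⟩ := andB_true h
  obtain ⟨h2, h⟩ := andB_true h
  obtain ⟨h3, h⟩ := andB_true h
  obtain ⟨h4, h5⟩ := andB_true h
  refine ⟨Nat.lt_succ_of_le (Nat.le_of_ble_eq_true h1), ?_, ?_, Nat.eq_of_beq_eq_true h5⟩
  · apply eq_of_sig (prodE_mem 11 b) (nfG_mem _)
    · rw [prodE_apply, nfG_fn]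
      exact Nat.eq_of_beq_eq_true h2
    · rw [prodE_apply, nfG_fn]
      exact Nat.eq_of_beq_eq_true h3
  · have := mulChk_true h4
    rw [nfG_zero, one_mul] at this
    exact this

theorem eE_inj {b b' : ℕ} (hb : b < 2048) (hb' : b' < 2048) (h : eE b = eE b') : b = b' := by
  have h1 := (eE_facts hb).2.2.2
  have h2 := (eE_facts hb').2.2.2
  rw [h] at h1
  omega

theorem EE_sq : ∀ a ∈ EE, a * a = 1 := by
  intro a ha
  obtain ⟨b, hb, rfl⟩ := mem_EE ha
  rw [(eE_facts hb).2.1]
  exact (eE_facts hb).2.2.1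

theorem nfG_eE_mem {b : ℕ} (hb : b < 2048) : nfG 18 (eE b) ∈ EE := by
  rw [← (eE_facts hb).2.1]
  exact nfE_mem gE 11 b

/-- the order of the elementary abelian subgroup. -/
theorem card_EE : Nat.card EE = 2048 := by
  let f : Fin 2048 → EE := fun b => ⟨nfE gE 11 b.val, nfE_mem gE 11 _⟩
  have hf : Function.Bijective f := by
    constructor
    · intro b b' h
      have h1 : nfE gE 11 b.val = nfE gE 11 b'.val := congrArg Subtype.val h
      rw [(eE_facts b.isLt).2.1, (eE_facts b'.isLt).2.1] at h1
      have h2 := nfG_inj (eE_facts b.isLt).1 (eE_facts b'.isLt).1 h1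
      exact Fin.ext (eE_inj b.isLt b'.isLt h2)
    · rintro ⟨x, hx⟩
      obtain ⟨b, hb, rfl⟩ := mem_EE hx
      exact ⟨⟨b, hb⟩, rfl⟩
  rw [← Nat.card_congr (Equiv.ofBijective f hf), Nat.card_fin]

/-! ### the subgroup of order 262144 normalizes the elementary abelian subgroup -/

/-- the conjugate of a generator of the elementary abelian subgroup by a generator of the
subgroup of order 262144. -/
def nbE (k i : ℕ) : ℕ := lkF 11 2047 nbT (Nat.add (Nat.mul 11 k) i)

/-- the check of the conjugate of a generator. -/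
def nbChk (k i : ℕ) : Bool :=
  sapp (fun b => sapp (fun c =>
    andB (Nat.beq (hF k (nfF 18 c 7797)) (evE 11 b (hF k 7797)))
      (Nat.beq (hF k (nfF 18 c 431)) (evE 11 b (hF k 431)))) (cE i)) (nbE k i)

set_option maxRecDepth 1000000 in
theorem nb_b : allB (fun k => allB (fun i => nbChk k i) 11) 18 = true := by decide +kernel

theorem hG_conj_gE {k i : ℕ} (hk : k < 18) (hi : i < 11) :
    hG k * gE i * (hG k)⁻¹ ∈ EE := by
  have h := allB_true (allB_true nb_b hk) hi
  unfold nbChk at h
  rw [sapp_eq, sapp_eq] at h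
  obtain ⟨h1, h2⟩ := andB_true h
  have e : hG k * gE i = nfE gE 11 (nbE k i) * hG k := by
    apply eq_of_sig (Subgroup.mul_mem _ (hG_mem hk) (gE_mem i))
      (Subgroup.mul_mem _ (prodE_mem 11 _) (hG_mem hk))
    · rw [Subgroup.coe_mul, Equiv.Perm.mul_apply, Subgroup.coe_mul, Equiv.Perm.mul_apply,
        hG_apply hk, prodE_apply, hG_apply hk]
      change hF k ((nfG 18 (cE i) : Equiv.Perm (Fin nP)) bp1).val = _
      rw [nfG_fn]
      exact Nat.eq_of_beq_eq_true h1
    · rw [Subgroup.coe_mul, Equiv.Perm.mul_apply, Subgroup.coe_mul, Equiv.Perm.mul_apply,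
        hG_apply hk, prodE_apply, hG_apply hk]
      change hF k ((nfG 18 (cE i) : Equiv.Perm (Fin nP)) bp2).val = _
      rw [nfG_fn]
      exact Nat.eq_of_beq_eq_true h2
  rw [e, mul_inv_cancel_right]
  exact nfE_mem gE 11 _

theorem hG_conj_EE {k : ℕ} (hk : k < 18) : ∀ a ∈ EE, hG k * a * (hG k)⁻¹ ∈ EE := by
  intro a ha
  refine Subgroup.closure_induction (p := fun a _ => hG k * a * (hG k)⁻¹ ∈ EE) ?_ ?_ ?_ ?_ ha
  · rintro x ⟨i, hi, rfl⟩
    exact hG_conj_gE hk hi
  · rw [mul_one, mul_inv_cancel]
    exact EE.one_mem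
  · intro x y _ _ hx hy
    have e : hG k * (x * y) * (hG k)⁻¹ = hG k * x * (hG k)⁻¹ * (hG k * y * (hG k)⁻¹) := by group
    rw [e]
    exact EE.mul_mem hx hy
  · intro x _ hx
    have e : hG k * x⁻¹ * (hG k)⁻¹ = (hG k * x * (hG k)⁻¹)⁻¹ := by group
    rw [e]
    exact EE.inv_mem hx

/-- the subgroup of order 262144 normalizes the elementary abelian subgroup. -/
theorem EE_normal : ∀ s ∈ SH 18, ∀ a ∈ EE, s * a * s⁻¹ ∈ EE := by
  have hle : SH 18 ≤ Subgroup.normalizer (EE : Set ↥F3P) := by
    unfold SH chainH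
    rw [Subgroup.closure_le]
    rintro x ⟨k, hk, rfl⟩
    exact Subgroup.mem_normalizer_fintype (fun n hn => hG_conj_EE hk n hn)
  intro s hs a ha
  exact (Subgroup.mem_normalizer_iff.mp (hle hs) a).mp ha

/-! ### the four further involutions -/

/-- the entry of the table of the elements of the elementary abelian subgroup and the four
further involutions. -/
def w2E (i : ℕ) : ℕ := lkF 49 562949953421311 (nthL w2T (Nat.shiftRight i 9)) (Nat.land i 511)

/-- an element of the list of 128 elements. -/
def wlE (j : ℕ) : ℕ := lkF 18 262143 wlT j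

/-- the check of an element of the elementary abelian subgroup and one of the four further
involutions: the element is in the list of 128 elements, or it does not commute with a conjugate
of the involution. -/
def w2Chk (c b : ℕ) : Bool :=
  sapp (fun t => sapp (fun y =>
    Nat.rec (andB (Nat.ble (Nat.shiftRight t 1) 127) (Nat.beq (wlE (Nat.shiftRight t 1)) y))
      (fun _ _ => sapp (fun x => ncW y x (Nat.shiftRight t 1)) (x0 c))
      (Nat.land t 1)) (eE b)) (w2E (Nat.add (Nat.mul 2048 c) b))

set_option maxRecDepth 1000000 in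
theorem w2_b : allB (fun c => allB (fun b => w2Chk c b) 2048) 4 = true := by decide +kernel

theorem w2_sound {c b : ℕ} (hc : c < 4) (hb : b < 2048) :
    (∃ w, w < 128 ∧ wlE w = eE b) ∨
      ∃ u ∈ SH 18, nfG 18 (eE b) * (u * nfG 18 (x0 c) * u⁻¹) ≠
        u * nfG 18 (x0 c) * u⁻¹ * nfG 18 (eE b) := by
  have h := allB_true (allB_true w2_b hc) hb
  unfold w2Chk at h
  rw [sapp_eq, sapp_eq] at h
  generalize w2E (Nat.add (Nat.mul 2048 c) b) = t at h
  generalize hk : Nat.land t 1 = k at h
  rcases k with _ | k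
  · left
    change andB (Nat.ble (Nat.shiftRight t 1) 127) (Nat.beq (wlE (Nat.shiftRight t 1)) (eE b)) =
      true at h
    obtain ⟨h1, h2⟩ := andB_true h
    exact ⟨_, Nat.lt_succ_of_le (Nat.le_of_ble_eq_true h1), Nat.eq_of_beq_eq_true h2⟩
  · right
    change sapp (fun x => ncW (eE b) x (Nat.shiftRight t 1)) (x0 c) = true at h
    rw [sapp_eq] at h
    exact ncW_sound h

theorem wlE_zero : wlE 0 = 0 := by decide +kernel

/-- the class of a further involution. -/
def cX (j : ℕ) : ℕ := Nat.land (xE j) 3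

/-- the element conjugating the representative of the class to a further involution. -/
def tX (j : ℕ) : ℕ := Nat.land (Nat.shiftRight (xE j) 2) 262143

theorem xChk_sound {e j : ℕ} (h : xChk e (xE j) = true) :
    cX j < 4 ∧ nfG 18 e * nfG 18 (tX j) = nfG 18 (tX j) * nfG 18 (x0 (cX j)) := by
  unfold xChk at h
  rw [sapp_eq, sapp_eq] at h
  obtain ⟨h1, h⟩ := andB_true h
  obtain ⟨-, h3⟩ := andB_true h
  rw [sapp_eq] at h3
  exact ⟨Nat.lt_succ_of_le (Nat.le_of_ble_eq_true h1), mulChk_true h3⟩

end Cfsg.Agent.Helper9.F3O
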