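import Mathlib
import Cfsg.Agent.Helper9.F3O.ElA

set_option autoImplicit false
set_option Elab.async false

/-! The normal elementary abelian subgroups of the subgroup of order 262144 of the second Fischer
group on 31671 points: the checks of a part of the elements. -/

namespace Cfsg.Agent.Helper9.F3O

open Cfsg.Agent.Helper9.J3 Cfsg.Agent.Helper9.HeO

set_option maxRecDepth 1000000 in
theorem chk1_b4 : allC chk1S 4 16384 = true := by decide +kernel

set_option maxRecDepth 1000000 in
theorem chk1_b5 : allC chk1S 5 16384 = true := by decide +kernel

set_option maxRecDepth 1000000 in
theorem chk1_b6 : allC chk1S 6 16384 = true := by decide +kernel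

set_option maxRecDepth 1000000 in
theorem chk1_b7 : allC chk1S 7 16384 = true := by decide +kernel


end Cfsg.Agent.Helper9.F3O
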