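import Mathlib
import Cfsg.Agent.Helper9.F3O.ElB
import Cfsg.Agent.Helper9.F3O.ElC0
import Cfsg.Agent.Helper9.F3O.ElC1
import Cfsg.Agent.Helper9.F3O.ElC2
import Cfsg.Agent.Helper9.F3O.ElC3

set_option autoImplicit false
set_option Elab.async false

/-! The normal elementary abelian subgroups of the subgroup of order 262144 of the second Fischer
group on 31671 points have at most 2048 elements, and one of them has 2048 elements. -/

namespace Cfsg.Agent.Helper9.F3O

open Cfsg.Agent.Helper9.J3 Cfsg.Agent.Helper9.HeO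

theorem chk1_all {e : ℕ} (he : e < 262144) : chk1 e = true := by
  have h : chk1S e = true := by
    refine allC_true (K := 16) (c := 16384) ?_ (by omega)
    intro i hi
    interval_cases i
    · exact chk1_b0
    · exact chk1_b1
    · exact chk1_b2
    · exact chk1_b3
    · exact chk1_b4
    · exact chk1_b5
    · exact chk1_b6
    · exact chk1_b7
    · exact chk1_b8
    · exact chk1_b9
    · exact chk1_b10
    · exact chk1_b11
    · exact chk1_b12
    · exact chk1_b13
    · exact chk1_b14
    · exact chk1_b15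
  unfold chk1S at h
  rwa [sapp_eq] at h

/-- a subgroup whose elements are in a list has at most as many elements as the list. -/
theorem card_le_of_forall_exists {X : Type*} [Group X] (A : Subgroup X) (n : ℕ) (F : ℕ → X)
    (h : ∀ a ∈ A, ∃ i, i < n ∧ a = F i) : Nat.card A ≤ n := by
  classical
  let f : A → Fin n := fun a =>
    ⟨Classical.choose (h a.1 a.2), (Classical.choose_spec (h a.1 a.2)).1⟩
  have hf : Function.Injective f := by
    intro a b hab
    have ha := (Classical.choose_spec (h a.1 a.2)).2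
    have hb := (Classical.choose_spec (h b.1 b.2)).2
    have hv : Classical.choose (h a.1 a.2) = Classical.choose (h b.1 b.2) :=
      congrArg Fin.val hab
    apply Subtype.ext
    rw [ha, hb, hv]
  have h1 := Nat.card_le_card_of_injective f hf
  rwa [Nat.card_fin] at h1

/-- a list of 256 elements. -/
def Fw (i : ℕ) : ↥F3P :=
  if i < 128 then nfG 18 (wlE i)
  else nfG 18 (tX (i - 128)) * nfG 18 (x0 (cX (i - 128))) * (nfG 18 (tX (i - 128)))⁻¹

/-- a normal elementary abelian subgroup of the subgroup of order 262144 is contained in the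
elementary abelian subgroup of order 2048, or has at most 256 elements. -/
theorem core {A : Subgroup ↥F3P} (hA : A ≤ SH 18)
    (hn : ∀ s ∈ SH 18, ∀ a ∈ A, s * a * s⁻¹ ∈ A)
    (hc : ∀ a ∈ A, ∀ b ∈ A, a * b = b * a) (h2 : ∀ a ∈ A, a * a = 1) :
    A ≤ EE ∨ Nat.card A ≤ 256 := by
  have key : ∀ a ∈ A, ∃ e, a = nfG 18 e ∧ (e = 0 ∨ (∃ b, b < 2048 ∧ eE b = e) ∨
      ∃ j, j < 128 ∧ xChk e (xE j) = true) := by
    intro a ha
    obtain ⟨e, he, rfl⟩ := mem_SH le_rfl (hA ha)
    have he' : e < 262144 := by norm_num at he; exact he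
    refine ⟨e, rfl, chk1_sound (chk1_all he') (h2 _ ha) ?_⟩
    intro u hu
    exact hc _ ha _ (hn u hu _ ha)
  by_cases hX : ∃ a ∈ A, ∃ e, a = nfG 18 e ∧ ∃ j, j < 128 ∧ xChk e (xE j) = true
  · right
    obtain ⟨a, ha, e, rfl, j, hj, hx⟩ := hX
    obtain ⟨hc4, hconj⟩ := xChk_sound hx
    have hx0 : nfG 18 (x0 (cX j)) ∈ A := by
      have h1 := hn (nfG 18 (tX j))⁻¹ (Subgroup.inv_mem _ (nfG_mem _)) _ ha
      have e1 : (nfG 18 (tX j))⁻¹ * nfG 18 e * ((nfG 18 (tX j))⁻¹)⁻¹ = nfG 18 (x0 (cX j)) := by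
        rw [inv_inv, mul_assoc, hconj, inv_mul_cancel_left]
      rw [e1] at h1
      exact h1
    apply card_le_of_forall_exists A 256 Fw
    intro y hy
    obtain ⟨e', rfl, h⟩ := key y hy
    rcases h with rfl | ⟨b, hb, rfl⟩ | ⟨j', hj', hx'⟩
    · refine ⟨0, by norm_num, ?_⟩
      unfold Fw
      rw [if_pos (by norm_num), wlE_zero]
    · rcases w2_sound hc4 hb with ⟨w, hw, hwl⟩ | ⟨u, hu, hne⟩
      · refine ⟨w, by omega, ?_⟩
        unfold Fw
        rw [if_pos hw, hwl]
      · exact absurd (hc _ hy _ (hn u hu _ hx0)) hne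
    · refine ⟨128 + j', by omega, ?_⟩
      obtain ⟨-, hconj'⟩ := xChk_sound hx'
      unfold Fw
      rw [if_neg (by omega), Nat.add_sub_cancel_left, eq_mul_inv_iff_mul_eq]
      exact hconj'
  · left
    intro a ha
    obtain ⟨e, rfl, h⟩ := key a ha
    rcases h with rfl | ⟨b, hb, rfl⟩ | ⟨j, hj, hx⟩
    · rw [nfG_zero]
      exact EE.one_mem
    · exact nfG_eE_mem hb
    · exact absurd ⟨_, ha, e, rfl, j, hj, hx⟩ hX

theorem finite_F3P' : Finite ↥F3P := inferInstance

/-- a normal elementary abelian subgroup of the subgroup of order 262144 has at most 2048 elements,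
and is the elementary abelian subgroup of order 2048 when it has 2048 elements. -/
theorem core_card {A : Subgroup ↥F3P} (hA : A ≤ SH 18)
    (hn : ∀ s ∈ SH 18, ∀ a ∈ A, s * a * s⁻¹ ∈ A)
    (hc : ∀ a ∈ A, ∀ b ∈ A, a * b = b * a) (h2 : ∀ a ∈ A, a * a = 1) :
    Nat.card A ≤ 2 ^ 11 ∧ (Nat.card A = 2 ^ 11 → A = EE) := by
  have := finite_F3P'
  rcases core hA hn hc h2 with h | h
  · have h1 := Subgroup.card_le_of_le h
    rw [card_EE] at h1
    refine ⟨by norm_num; exact h1, fun heq => ?_⟩
    apply Subgroup.eq_of_le_of_card_ge h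
    rw [card_EE, heq]
    norm_num
  · refine ⟨by norm_num; omega, fun heq => ?_⟩
    norm_num at heq
    omega

end Cfsg.Agent.Helper9.F3O
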