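import Mathlib
import Cfsg.Agent.Helper9.F3O.Lst
import Cfsg.Agent.Helper9.F3O.SylA
import Cfsg.Agent.Helper9.F3O.DataC

set_option autoImplicit false
set_option Elab.async false

/-! Three lists of conjugates of involutions of the second Fischer group on 31671 points: the
definitions and the checks of the ranges. -/

namespace Cfsg.Agent.Helper9.F3O

open Cfsg.Agent.Helper9.J3 Cfsg.Agent.Helper9.HeO

/-- the list of the conjugates of the second generator. -/
def DB : LData := ⟨bF, repB, lstB, [15171, 2075, 7757, 23581], 2439, 31671⟩

/-- a list of conjugates of an involution of the centre of the subgroup of order 262144. -/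
def D2 : LData := ⟨hF 1, rep2, lst2, [5657, 6393, 9997], 2437, 31681⟩

/-- a list of conjugates of another involution of the centre of the subgroup of order 262144. -/
def D3 : LData := ⟨fun x => hF 1 (hF 0 x), rep3, lst3, [28249, 14902, 5526], 2437, 31681⟩

theorem pts_B : ptsOk DB.pts = true := by decide +kernel

set_option maxRecDepth 1000000 in
theorem rng_B : allB (rngChk DB) 31671 = true := by decide +kernel

set_option maxRecDepth 1000000 in
theorem dig_B : allB (fun j => digOk (repc DB j)) 2439 = true := by decide +kernel

theorem pts_2 : ptsOk D2.pts = true := by decide +kernel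

set_option maxRecDepth 1000000 in
theorem rng_2 : allB (rngChk D2) 31681 = true := by decide +kernel

set_option maxRecDepth 1000000 in
theorem dig_2 : allB (fun j => digOk (repc D2 j)) 2437 = true := by decide +kernel

theorem pts_3 : ptsOk D3.pts = true := by decide +kernel

set_option maxRecDepth 1000000 in
theorem rng_3 : allB (rngChk D3) 31681 = true := by decide +kernel

set_option maxRecDepth 1000000 in
theorem dig_3 : allB (fun j => digOk (repc D3 j)) 2437 = true := by decide +kernel


end Cfsg.Agent.Helper9.F3O
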