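import Mathlib
import Cfsg.Agent.Helper9.F3O.InvA

set_option autoImplicit false
set_option Elab.async false

/-! A list of conjugates of an involution of the second Fischer group on 31671 points: the
signatures of a part of the list increase. -/

namespace Cfsg.Agent.Helper9.F3O

open Cfsg.Agent.Helper9.J3 Cfsg.Agent.Helper9.HeO

set_option maxRecDepth 1000000 in
theorem step2_0 : allC (stepChk D2) 0 4096 = true := by decide +kernel

set_option maxRecDepth 1000000 in
theorem step2_1 : allC (stepChk D2) 1 4096 = true := by decide +kernel

set_option maxRecDepth 1000000 in
theorem step2_2 : allC (stepChk D2) 2 4096 = true := by decide +kernel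

set_option maxRecDepth 1000000 in
theorem step2_3 : allC (stepChk D2) 3 4096 = true := by decide +kernel


end Cfsg.Agent.Helper9.F3O
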