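import Mathlib
import Cfsg.Agent.Helper9.F3O.Cen
import Cfsg.Agent.Helper9.F3O.Lst
import Cfsg.Agent.Helper9.F3O.Cls
import Cfsg.Agent.Helper9.F3O.InvA
import Cfsg.Agent.Helper9.F3O.InvB0
import Cfsg.Agent.Helper9.F3O.InvB1
import Cfsg.Agent.Helper9.F3O.Inv20
import Cfsg.Agent.Helper9.F3O.Inv21
import Cfsg.Agent.Helper9.F3O.Inv30
import Cfsg.Agent.Helper9.F3O.Inv31

set_option autoImplicit false
set_option Elab.async false

/-! The list of the 31671 conjugates of the second generator of the second Fischer group on 31671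
points; lists of 31681 conjugates of two more involutions; every automorphism maps the second
generator to a conjugate of it. -/

namespace Cfsg.Agent.Helper9.F3O

open Cfsg.Agent.Helper9.J3 Cfsg.Agent.Helper9.HeO

theorem stepB_all {k : ℕ} (hk : k < 31671) : stepChk DB k = true := by
  refine allC_true (K := 8) (c := 4096) ?_ (by omega)
  intro i hi
  interval_cases i
  · exact stepB_0
  · exact stepB_1
  · exact stepB_2
  · exact stepB_3
  · exact stepB_4
  · exact stepB_5
  · exact stepB_6
  · exact stepB_7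

theorem step2_all {k : ℕ} (hk : k < 31681) : stepChk D2 k = true := by
  refine allC_true (K := 8) (c := 4096) ?_ (by omega)
  intro i hi
  interval_cases i
  · exact step2_0
  · exact step2_1
  · exact step2_2
  · exact step2_3
  · exact step2_4
  · exact step2_5
  · exact step2_6
  · exact step2_7

theorem step3_all {k : ℕ} (hk : k < 31681) : stepChk D3 k = true := by
  refine allC_true (K := 8) (c := 4096) ?_ (by omega)
  intro i hi
  interval_cases i
  · exact step3_0
  · exact step3_1
  · exact step3_2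
  · exact step3_3
  · exact step3_4
  · exact step3_5
  · exact step3_6
  · exact step3_7

theorem DB_ok : LOk DB :=
  ⟨pts_B, fun _ hk => allB_true rng_B hk, fun _ hj => allB_true dig_B hj,
    fun _ hk => stepB_all hk⟩

theorem D2_ok : LOk D2 :=
  ⟨pts_2, fun _ hk => allB_true rng_2 hk, fun _ hj => allB_true dig_2 hj,
    fun _ hk => step2_all hk⟩

theorem D3_ok : LOk D3 :=
  ⟨pts_3, fun _ hk => allB_true rng_3 hk, fun _ hj => allB_true dig_3 hj,
    fun _ hk => step3_all hk⟩

theorem h3_apply (p : Fin nP) :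
    (((hG 1 * hG 0 : ↥F3P) : Equiv.Perm (Fin nP)) p).val = hF 1 (hF 0 p.val) := by
  rw [Subgroup.coe_mul, Equiv.Perm.mul_apply, hG_apply (by norm_num), hG_apply (by norm_num)]

theorem big_2 : 31681 ≤ {y : ↥F3P | ∃ g : ↥F3P, g * hG 1 * g⁻¹ = y}.ncard :=
  have := finite_F3P
  le_ncard_class D2 (hG 1) (hG_apply (by norm_num)) D2_ok

theorem big_3 : 31681 ≤ {y : ↥F3P | ∃ g : ↥F3P, g * (hG 1 * hG 0) * g⁻¹ = y}.ncard :=
  have := finite_F3P
  le_ncard_class D3 (hG 1 * hG 0) h3_apply D3_ok

/-- every conjugate of the second generator is conjugate under a power of the element of order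
thirteen to a representative. -/
theorem exists_rep_B (y : ↥F3P) (hy : ∃ g : ↥F3P, g * bG * g⁻¹ = y) :
    ∃ i : ℕ, ∃ j, j < 2439 ∧ aG ^ i * y * (aG ^ i)⁻¹ = repG DB bG j :=
  have := finite_F3P
  exists_rep DB bG bG_apply DB_ok card_class_le y hy

theorem factorization_two : Nat.card (SH 18) = 2 ^ (Nat.card ↥F3P).factorization 2 := by
  rw [card_SH, card_F3P]
  have h1 : (4089470473293004800 : ℕ) = 2 ^ 18 * 15600091832325 := by norm_num
  rw [h1, Nat.factorization_mul (by norm_num) (by norm_num)]
  simp only [Finsupp.coe_add, Pi.add_apply]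
  rw [Nat.factorization_eq_zero_of_not_dvd (n := 15600091832325) (by norm_num)]
  have : (2 ^ 18).factorization 2 = 18 := by
    rw [Nat.factorization_pow]
    simp [Nat.Prime.factorization_self Nat.prime_two]
  rw [this]
  norm_num

theorem nfE_two {X : Type*} [Group X] (h : ℕ → X) (e : ℕ) :
    nfE h 2 e = (if bitT e 1 = true then h 1 else 1) * ((if bitT e 0 = true then h 0 else 1) * 1) :=
  rfl

theorem nfG_two : nfG 18 2 = hG 1 := by
  unfold nfG
  rw [nfE_of_lt hG (j := 2) (by norm_num) 18 (by norm_num), nfE_two]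
  have h1 : bitT 2 1 = true := rfl
  have h0 : bitT 2 0 = false := rfl
  rw [h1, h0]
  simp

theorem nfG_three : nfG 18 3 = hG 1 * hG 0 := by
  unfold nfG
  rw [nfE_of_lt hG (j := 2) (by norm_num) 18 (by norm_num), nfE_two]
  have h1 : bitT 3 1 = true := rfl
  have h0 : bitT 3 0 = true := rfl
  rw [h1, h0]
  simp

/-- every automorphism maps the involution in the centre to a conjugate of it. -/
theorem aut_conj_tG (β : MulAut ↥F3P) : ∃ g : ↥F3P, g * tG * g⁻¹ = β tG := by
  have := finite_F3P
  refine aut_conj_of_center_inv (SH 18) factorization_two tG tG_mem tG_ne_one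
    (fun y hy => tG_comm hy)
    (fun x => {y : ↥F3P | ∃ g : ↥F3P, g * x * g⁻¹ = y}.ncard ≤ 31671) ?_ ?_ β
  · intro α
    rw [ncard_class_aut]
    exact card_class_tG_le
  · intro x hx hc hI
    rcases center_cases hx hc with rfl | rfl | rfl | rfl
    · exact Or.inl rfl
    · exact Or.inr rfl
    · exfalso
      have h1 := big_2
      have h2 : {y : ↥F3P | ∃ g : ↥F3P, g * nfG 18 2 * g⁻¹ = y}.ncard ≤ 31671 := hI
      rw [nfG_two] at h2
      omega
    · exfalso
      have h1 := big_3
      have h2 : {y : ↥F3P | ∃ g : ↥F3P, g * nfG 18 3 * g⁻¹ = y}.ncard ≤ 31671 := hI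
      rw [nfG_three] at h2
      omega

/-- every automorphism maps the second generator to a conjugate of it. -/
theorem aut_conj (β : MulAut ↥F3P) : ∃ g : ↥F3P, g * bG * g⁻¹ = β bG := by
  obtain ⟨u, hu⟩ := bG_conj
  obtain ⟨g, hg⟩ := aut_conj_tG β
  refine ⟨β u * g * u⁻¹, ?_⟩
  rw [← hu, map_mul, map_mul, map_inv, ← hg]
  group

end Cfsg.Agent.Helper9.F3O
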