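import Mathlib
import Cfsg.Prelude
import Cfsg.Agent.Helper9.F3O.ElMain
import Cfsg.Agent.Helper9.F3O.Invs
import Cfsg.Agent.Lead.SylTransfer

set_option autoImplicit false
set_option Elab.async false

/-! A Sylow 2-subgroup of the presented second Fischer group has exactly one normal elementary
abelian subgroup of order 2048, and no normal elementary abelian subgroup of larger order. -/

namespace Cfsg.Agent.Helper9.F3O

open Cfsg.Agent.Helper9.J3 Cfsg.Agent.Helper9.HeO Cfsg Cfsg.Spor

theorem sylow_two_Fi23 (T : Sylow 2 Fi23) :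
    (∀ A : Subgroup Fi23, A ≤ T → (A.subgroupOf T).Normal → Cfsg.IsElementaryAbelian 2 A →
        Nat.card A ≤ 2 ^ 11) ∧
    ∃! A : Subgroup Fi23, A ≤ T ∧ (A.subgroupOf T).Normal ∧ Cfsg.IsElementaryAbelian 2 A ∧
        Nat.card A = 2 ^ 11 := by
  have hc : Nat.card Fi23 = 4089470473293004800 := isFi23.2
  have : Finite Fi23 := Nat.finite_of_card_ne_zero (by rw [hc]; norm_num)
  obtain ⟨e⟩ := F3P_iso isFi23.1
  obtain ⟨φ, hφ⟩ := Cfsg.Agent.Lead.SylTransfer.exists_iso_sylow e (SH 18) factorization_two T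
  exact Cfsg.Agent.Lead.SylTransfer.normal_elementary_transfer φ (T : Subgroup Fi23) (SH 18) EE
    (2 ^ 11) hφ EE_le EE_normal EE_comm EE_sq (by rw [card_EE]; norm_num)
    (fun A hA hn hc h2 => core_card hA hn hc h2)

end Cfsg.Agent.Helper9.F3O
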