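import Mathlib
import Cfsg.Agent.Helper9.F3O.Base
import Cfsg.Agent.Helper9.HeO.Abs

set_option autoImplicit false
set_option Elab.async false

/-! The second Fischer group on 31671 points is generated by the element of order thirteen and the
second generator; an element normalizing the subgroup of order thirteen. -/

namespace Cfsg.Agent.Helper9.F3O

open Cfsg.Agent.Helper9.J3 Cfsg.Agent.Helper9.HeO

/-! ### generation -/

/-- the element of an atom: a power of the element of order thirteen or the second generator. -/
def atomE (t : ℕ) : ↥F3P := if t ≤ 12 then aG ^ t else bG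

/-- the image of a point under an atom. -/
def atomF (t x : ℕ) : ℕ := Bool.rec (bF x) (aF t x) (Nat.ble t 12)

/-- the image of a point under a product of atoms. -/
def evA (w : List ℕ) (p : ℕ) : ℕ := List.rec p (fun t _ acc => sapp (atomF t) acc) w

theorem atomE_apply (t : ℕ) (p : Fin nP) :
    ((atomE t : Equiv.Perm (Fin nP)) p).val = atomF t p.val := by
  unfold atomE atomF
  by_cases h : t ≤ 12
  · rw [if_pos h, Nat.ble_eq_true_of_le h]
    exact aG_pow_apply t (by omega) p
  · rw [if_neg h]
    have : Nat.ble t 12 = false := by
      rw [← Bool.not_eq_true]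
      intro h'
      exact h (Nat.le_of_ble_eq_true h')
    rw [this]
    exact bG_apply p

theorem prodA_apply (w : List ℕ) (p : Fin nP) :
    ((((w.map atomE).prod : ↥F3P) : Equiv.Perm (Fin nP)) p).val = evA w p.val := by
  induction w with
  | nil => rfl
  | cons t w ih =>
    rw [List.map_cons, List.prod_cons, Subgroup.coe_mul, Equiv.Perm.mul_apply, atomE_apply, ih]
    change _ = sapp (atomF t) (evA w p.val)
    rw [sapp_eq]

theorem atomE_mem (t : ℕ) : atomE t ∈ Subgroup.closure ({aG, bG} : Set ↥F3P) := by
  unfold atomE
  split_ifs
  · exact Subgroup.pow_mem _ (Subgroup.subset_closure (by simp)) _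
  · exact Subgroup.subset_closure (by simp)

/-- the check that a letter is a product of atoms. -/
def genChk (l : ℕ) (w : List ℕ) : Bool := allB (fun x => Nat.beq (evA w x) (tabF l x)) nP

theorem letter_mem {l : ℕ} (hl : l < 10) {w : List ℕ} (h : genChk l w = true) :
    (⟨P l, P_mem l⟩ : ↥F3P) ∈ Subgroup.closure ({aG, bG} : Set ↥F3P) := by
  have e : (⟨P l, P_mem l⟩ : ↥F3P) = (w.map atomE).prod := by
    apply Subtype.ext
    apply perm_ext
    intro p
    rw [prodA_apply]
    change (P l p).val = _
    rw [P_apply, tab_of_lt hl]
    exact (Nat.eq_of_beq_eq_true (allB_true h p.isLt)).symm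
  rw [e]
  apply Subgroup.list_prod_mem
  intro x hx
  obtain ⟨t, -, rfl⟩ := List.mem_map.mp hx
  exact atomE_mem t

set_option maxRecDepth 1000000 in
theorem gen0_b : genChk 0 genW0 = true := by decide +kernel

set_option maxRecDepth 1000000 in
theorem gen1_b : genChk 1 genW1 = true := by decide +kernel

set_option maxRecDepth 1000000 in
theorem gen2_b : genChk 2 genW2 = true := by decide +kernel

set_option maxRecDepth 1000000 in
theorem gen3_b : genChk 3 genW3 = true := by decide +kernel

set_option maxRecDepth 1000000 in
theorem gen4_b : genChk 4 genW4 = true := by decide +kernel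

set_option maxRecDepth 1000000 in
theorem gen5_b : genChk 5 genW5 = true := by decide +kernel

set_option maxRecDepth 1000000 in
theorem gen6_b : genChk 6 genW6 = true := by decide +kernel

set_option maxRecDepth 1000000 in
theorem gen7_b : genChk 7 genW7 = true := by decide +kernel

set_option maxRecDepth 1000000 in
theorem gen8_b : genChk 8 genW8 = true := by decide +kernel

set_option maxRecDepth 1000000 in
theorem gen9_b : genChk 9 genW9 = true := by decide +kernel

/-- the group is generated by the element of order thirteen and the second generator. -/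
theorem closure_aG_bG : Subgroup.closure ({aG, bG} : Set ↥F3P) = ⊤ := by
  rw [eq_top_iff]
  rintro ⟨x, hx⟩ -
  have key : ∀ l : ℕ, l < 10 →
      (⟨P l, P_mem l⟩ : ↥F3P) ∈ Subgroup.closure ({aG, bG} : Set ↥F3P) := by
    intro l hl
    interval_cases l
    · exact letter_mem (by norm_num) gen0_b
    · exact letter_mem (by norm_num) gen1_b
    · exact letter_mem (by norm_num) gen2_b
    · exact letter_mem (by norm_num) gen3_b
    · exact letter_mem (by norm_num) gen4_b
    · exact letter_mem (by norm_num) gen5_b
    · exact letter_mem (by norm_num) gen6_b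
    · exact letter_mem (by norm_num) gen7_b
    · exact letter_mem (by norm_num) gen8_b
    · exact letter_mem (by norm_num) gen9_b
  refine Subgroup.closure_induction
    (p := fun y hy => (⟨y, hy⟩ : ↥F3P) ∈ Subgroup.closure ({aG, bG} : Set ↥F3P)) ?_ ?_ ?_ ?_ hx
  · rintro y ⟨l, rfl⟩
    exact key l.val l.isLt
  · exact Subgroup.one_mem _
  · intro y z hy hz h1 h2
    exact Subgroup.mul_mem _ h1 h2
  · intro y hy h1
    exact Subgroup.inv_mem _ h1

/-! ### the normalizing element -/

/-- the element normalizing the subgroup of order thirteen. -/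
def nG : ↥F3P := ⟨permW nW, permW_mem _⟩

theorem nW_letters : ∀ l ∈ nW, l < 10 := okLetters_true (by decide +kernel)

/-- the check that the element conjugates the element of order thirteen to its fourth power, at a
point. -/
def nChk (x : ℕ) : Bool :=
  orB (Nat.ble nP x) (Nat.beq (evalF nW (aF 1 x)) (sapp (aF 4) (evalF nW x)))

set_option maxRecDepth 1000000 in
theorem n_conj_b0 : allC nChk 0 8192 = true := by decide +kernel

set_option maxRecDepth 1000000 in
theorem n_conj_b1 : allC nChk 1 8192 = true := by decide +kernel

set_option maxRecDepth 1000000 in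
theorem n_conj_b2 : allC nChk 2 8192 = true := by decide +kernel

set_option maxRecDepth 1000000 in
theorem n_conj_b3 : allC nChk 3 8192 = true := by decide +kernel

theorem n_conj_b {x : ℕ} (hx : x < nP) :
    evalF nW (aF 1 x) = aF 4 (evalF nW x) := by
  have hx' : x < 31671 := hx
  have h : nChk x = true := by
    refine allC_true (K := 4) (c := 8192) ?_ (by omega)
    intro i hi
    interval_cases i
    · exact n_conj_b0
    · exact n_conj_b1
    · exact n_conj_b2
    · exact n_conj_b3
  rcases orB_true h with h1 | h1
  · have h2 : 31671 ≤ x := Nat.le_of_ble_eq_true h1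
    omega
  · rw [sapp_eq] at h1
    exact Nat.eq_of_beq_eq_true h1

theorem conj_nG : nG * aG * nG⁻¹ = aG ^ 4 := by
  rw [mul_inv_eq_iff_eq_mul]
  apply Subtype.ext
  apply perm_ext
  intro p
  rw [Subgroup.coe_mul, Subgroup.coe_mul, Equiv.Perm.mul_apply, Equiv.Perm.mul_apply,
    aG_pow_apply 4 (by norm_num)]
  change (permW nW ((aG : Equiv.Perm (Fin nP)) p)).val = aF 4 (permW nW p).val
  rw [permW_val _ nW_letters, permW_val _ nW_letters, aG_apply]
  exact n_conj_b p.isLt

end Cfsg.Agent.Helper9.F3O
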