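import Mathlib
import Cfsg.Prelude
import Cfsg.Agent.Helper9.F3O.Norm
import Cfsg.Agent.Helper9.F3O.Invs
import Cfsg.Agent.Helper9.Out.OutLemma2

set_option autoImplicit false
set_option Elab.async false

/-! The outer automorphism group of the second Fischer group on 31671 points has one element. -/

namespace Cfsg.Agent.Helper9.F3O

open Cfsg.Agent.Helper9.J3 Cfsg.Agent.Helper9.HeO Cfsg.Agent.Helper9.OutL
open Cfsg Cfsg.Spor

/-- the relations of the element of order thirteen and the second generator. -/
def relsL : List (List Bool × ℕ) :=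
  [([true, false], 30), ([true, true, false], 22), ([true, true, true, false], 22),
    ([true, true, true, true, true, false], 17)]

/-- the image of a point under a power. -/
def powF (f : ℕ → ℕ) (e p : ℕ) : ℕ := Nat.rec p (fun _ acc => f acc) e

theorem pow_apply_val {σ : Equiv.Perm (Fin nP)} {f : ℕ → ℕ}
    (hf : ∀ p : Fin nP, (σ p).val = f p.val) (e : ℕ) (p : Fin nP) :
    ((σ ^ e) p).val = powF f e p.val := by
  induction e with
  | zero => rfl
  | succ e ih =>
    rw [pow_succ', Equiv.Perm.mul_apply, hf, ih]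
    rfl

theorem evalW_1 {X : Type*} [Monoid X] (a y : X) : evalW [true, false] a y = a ^ 1 * y := by
  unfold evalW
  simp

theorem evalW_2 {X : Type*} [Monoid X] (a y : X) : evalW [true, true, false] a y = a ^ 2 * y := by
  unfold evalW
  simp [pow_succ, mul_assoc]

theorem evalW_3 {X : Type*} [Monoid X] (a y : X) :
    evalW [true, true, true, false] a y = a ^ 3 * y := by
  unfold evalW
  simp [pow_succ, mul_assoc]

theorem evalW_5 {X : Type*} [Monoid X] (a y : X) :
    evalW [true, true, true, true, true, false] a y = a ^ 5 * y := by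
  unfold evalW
  simp [pow_succ, mul_assoc]

/-- the image of a point under the product of a power of the element of order thirteen and
a second element. -/
def sylF (k : ℕ) (g : ℕ → ℕ) (x : ℕ) : ℕ := aF k (g x)

theorem syl_apply {k : ℕ} (hk : k ≤ 13) {y : ↥F3P} {g : ℕ → ℕ}
    (hg : ∀ p : Fin nP, ((y : Equiv.Perm (Fin nP)) p).val = g p.val) (p : Fin nP) :
    (((aG ^ k * y : ↥F3P) : Equiv.Perm (Fin nP)) p).val = sylF k g p.val := by
  rw [Subgroup.coe_mul, Equiv.Perm.mul_apply, aG_pow_apply k hk, hg]
  rfl

/-- a relation in terms of the images of the points. -/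
theorem rel_pointwise {z : ↥F3P} {f : ℕ → ℕ}
    (hf : ∀ p : Fin nP, ((z : Equiv.Perm (Fin nP)) p).val = f p.val) (o : ℕ)
    (h : z ^ o = 1) (p : Fin nP) : powF f o p.val = p.val := by
  have h1 := pow_apply_val (σ := (z : Equiv.Perm (Fin nP))) hf o p
  rw [← Subgroup.coe_pow, h] at h1
  exact h1.symm

theorem rel_of_pointwise {z : ↥F3P} {f : ℕ → ℕ}
    (hf : ∀ p : Fin nP, ((z : Equiv.Perm (Fin nP)) p).val = f p.val) (o : ℕ)
    (h : allB (fun x => Nat.beq (powF f o x) x) nP = true) : z ^ o = 1 := by
  apply Subtype.ext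
  apply perm_ext
  intro p
  rw [Subgroup.coe_pow, pow_apply_val hf o p]
  exact Nat.eq_of_beq_eq_true (allB_true h p.isLt)

set_option maxRecDepth 1000000 in
theorem hrel1_b : allB (fun x => Nat.beq (powF (sylF 1 bF) 30 x) x) nP = true := by
  decide +kernel

set_option maxRecDepth 1000000 in
theorem hrel2_b : allB (fun x => Nat.beq (powF (sylF 2 bF) 22 x) x) nP = true := by
  decide +kernel

set_option maxRecDepth 1000000 in
theorem hrel3_b : allB (fun x => Nat.beq (powF (sylF 3 bF) 22 x) x) nP = true := by
  decide +kernel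

set_option maxRecDepth 1000000 in
theorem hrel5_b : allB (fun x => Nat.beq (powF (sylF 5 bF) 17 x) x) nP = true := by
  decide +kernel

theorem mem_relsL {e : List Bool × ℕ} (he : e ∈ relsL) :
    e = ([true, false], 30) ∨ e = ([true, true, false], 22) ∨
      e = ([true, true, true, false], 22) ∨ e = ([true, true, true, true, true, false], 17) := by
  unfold relsL at he
  simpa using he

/-- the relations hold for the element of order thirteen and the second generator. -/
theorem hrels : ∀ e ∈ relsL, evalW e.1 aG bG ^ e.2 = 1 := by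
  intro e he
  rcases mem_relsL he with rfl | rfl | rfl | rfl
  · rw [evalW_1]
    exact rel_of_pointwise (syl_apply (by norm_num) bG_apply) 30 hrel1_b
  · rw [evalW_2]
    exact rel_of_pointwise (syl_apply (by norm_num) bG_apply) 22 hrel2_b
  · rw [evalW_3]
    exact rel_of_pointwise (syl_apply (by norm_num) bG_apply) 22 hrel3_b
  · rw [evalW_5]
    exact rel_of_pointwise (syl_apply (by norm_num) bG_apply) 17 hrel5_b

/-! ### the representatives that fail a relation -/

/-- the entry of the witnesses of the failing relations. -/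
def tst1 (j : ℕ) : ℕ := lkF 18 262143 tst1D j

/-- the entry of the witnesses of the failing relations for the square of the element of order
thirteen. -/
def tst2 (j : ℕ) : ℕ := lkF 18 262143 tst2D j

/-- the image of a point under the power of a relation. -/
def relF (k1 k2 k3 k4 r : ℕ) (g : ℕ → ℕ) (pt : ℕ) : ℕ :=
  Nat.rec (powF (sylF k1 g) 30 pt) (fun r1 _ => Nat.rec (powF (sylF k2 g) 22 pt)
    (fun r2 _ => Nat.rec (powF (sylF k3 g) 22 pt) (fun _ _ => powF (sylF k4 g) 17 pt) r2) r1) r

/-- the check that the representative of a code fails a relation. -/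
def failChk (k1 k2 k3 k4 t c : ℕ) : Bool :=
  sapp (fun r => sapp (fun pt =>
      andB (Nat.ble r 3) (andB (Nat.ble pt 31670)
        (notB (Nat.beq (relF k1 k2 k3 k4 r (repF bF c) pt) pt))))
    (Nat.shiftRight t 3)) (Nat.land t 7)

/-- the representatives that satisfy the relations. -/
def isSpec (j : ℕ) : Bool :=
  orB (Nat.beq j 0) (orB (Nat.beq j 2050) (orB (Nat.beq j 2119) (orB (Nat.beq j 2403)
    (orB (Nat.beq j 2432) (Nat.beq j 2435)))))

theorem spec_cases {j : ℕ} (h : isSpec j = true) :
    j = 0 ∨ j = 2050 ∨ j = 2119 ∨ j = 2403 ∨ j = 2432 ∨ j = 2435 := by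
  rcases orB_true h with h | h
  · exact Or.inl (Nat.eq_of_beq_eq_true h)
  rcases orB_true h with h | h
  · exact Or.inr (Or.inl (Nat.eq_of_beq_eq_true h))
  rcases orB_true h with h | h
  · exact Or.inr (Or.inr (Or.inl (Nat.eq_of_beq_eq_true h)))
  rcases orB_true h with h | h
  · exact Or.inr (Or.inr (Or.inr (Or.inl (Nat.eq_of_beq_eq_true h))))
  rcases orB_true h with h | h
  · exact Or.inr (Or.inr (Or.inr (Or.inr (Or.inl (Nat.eq_of_beq_eq_true h)))))
  · exact Or.inr (Or.inr (Or.inr (Or.inr (Or.inr (Nat.eq_of_beq_eq_true h)))))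

/-- the check that a representative is one of six or fails a relation. -/
def test1Chk (j : ℕ) : Bool :=
  orB (isSpec j) (sapp (fun t => sapp (fun c => failChk 1 2 3 5 t c) (repc DB j)) (tst1 j))

/-- the check that a representative fails a relation with the square of the element of order
thirteen. -/
def test2Chk (j : ℕ) : Bool :=
  sapp (fun t => sapp (fun c => failChk 2 4 6 10 t c) (repc DB j)) (tst2 j)

set_option maxRecDepth 1000000 in
theorem test1_b : allB test1Chk 2439 = true := by decide +kernel

set_option maxRecDepth 1000000 in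
theorem test2_b : allB test2Chk 2439 = true := by decide +kernel

/-- the representatives of the conjugates of the second generator. -/
def Cand : Set ↥F3P := {g | ∃ j, j < 2439 ∧ g = repG DB bG j}

theorem repG_zero : repG DB bG 0 = bG := by
  have h0 : repc DB 0 = 0 := by decide +kernel
  unfold repG
  rw [h0]
  rfl

theorem repG_B_apply {j : ℕ} (hj : j < 2439) (p : Fin nP) :
    ((repG DB bG j : Equiv.Perm (Fin nP)) p).val = repF bF (repc DB j) p.val :=
  repG_apply DB bG bG_apply DB_ok hj p

theorem fail_absurd {k0 k1 k2 k3 k4 : ℕ} (h1 : k0 * 1 = k1) (h2 : k0 * 2 = k2) (h3 : k0 * 3 = k3)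
    (h4 : k0 * 5 = k4) (hle : k4 ≤ 13) {j : ℕ} (hj : j < 2439) {t : ℕ}
    (hr : ∀ e ∈ relsL, evalW e.1 (aG ^ k0) (repG DB bG j) ^ e.2 = 1)
    (hf : failChk k1 k2 k3 k4 t (repc DB j) = true) : False := by
  unfold failChk at hf
  rw [sapp_eq, sapp_eq] at hf
  obtain ⟨hr4, hf⟩ := andB_true hf
  obtain ⟨hpt, hf⟩ := andB_true hf
  have hr4' := Nat.le_of_ble_eq_true hr4
  have hpt' : Nat.shiftRight t 3 < nP := Nat.lt_succ_of_le (Nat.le_of_ble_eq_true hpt)
  have hf2 := notB_true hf
  have e1 := hr ([true, false], 30) (by unfold relsL; simp)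
  have e2 := hr ([true, true, false], 22) (by unfold relsL; simp)
  have e3 := hr ([true, true, true, false], 22) (by unfold relsL; simp)
  have e5 := hr ([true, true, true, true, true, false], 17) (by unfold relsL; simp)
  rw [evalW_1, ← pow_mul, h1] at e1
  rw [evalW_2, ← pow_mul, h2] at e2
  rw [evalW_3, ← pow_mul, h3] at e3
  rw [evalW_5, ← pow_mul, h4] at e5
  have q1 := rel_pointwise (syl_apply (by omega) (repG_B_apply hj)) 30 e1 ⟨_, hpt'⟩
  have q2 := rel_pointwise (syl_apply (by omega) (repG_B_apply hj)) 22 e2 ⟨_, hpt'⟩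
  have q3 := rel_pointwise (syl_apply (by omega) (repG_B_apply hj)) 22 e3 ⟨_, hpt'⟩
  have q5 := rel_pointwise (syl_apply hle (repG_B_apply hj)) 17 e5 ⟨_, hpt'⟩
  generalize hrv : Nat.land t 7 = r at hr4' hf2
  interval_cases r
  · change Nat.beq (powF (sylF k1 (repF bF (repc DB j))) 30 _) _ = false at hf2
    rw [q1, Nat.beq_refl] at hf2
    exact Bool.noConfusion hf2
  · change Nat.beq (powF (sylF k2 (repF bF (repc DB j))) 22 _) _ = false at hf2
    rw [q2, Nat.beq_refl] at hf2
    exact Bool.noConfusion hf2
  · change Nat.beq (powF (sylF k3 (repF bF (repc DB j))) 22 _) _ = false at hf2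
    rw [q3, Nat.beq_refl] at hf2
    exact Bool.noConfusion hf2
  · change Nat.beq (powF (sylF k4 (repF bF (repc DB j))) 17 _) _ = false at hf2
    rw [q5, Nat.beq_refl] at hf2
    exact Bool.noConfusion hf2

/-! ### the representatives that satisfy the relations -/

/-- the code of the representative that is the second involution commuting with the element of
order thirteen. -/
def xc : ℕ := 12822798

theorem xc_eq : repc DB 2436 = xc := by decide +kernel

/-- the image of a point under the second involution commuting with the element of order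
thirteen. -/
def xF (p : ℕ) : ℕ := repF bF xc p

/-- the second involution commuting with the element of order thirteen. -/
def xG : ↥F3P := repG DB bG 2436

theorem xG_apply (p : Fin nP) : ((xG : Equiv.Perm (Fin nP)) p).val = xF p.val := by
  have h := repG_B_apply (show 2436 < 2439 by norm_num) p
  rw [xc_eq] at h
  exact h

/-- one of the two involutions commuting with the element of order thirteen. -/
def sAtom (l : ℕ) : ↥F3P := Nat.rec tG (fun _ _ => xG) l

/-- a product of the two involutions commuting with the element of order thirteen. -/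
def sE (w : List ℕ) : ↥F3P := (w.map sAtom).prod

/-- the image of a point under a product of the two involutions. -/
def evS (w : List ℕ) (p : ℕ) : ℕ :=
  List.rec p (fun l _ acc => Nat.rec (hF 0 acc) (fun _ _ => xF acc) l) w

theorem sE_apply (w : List ℕ) (p : Fin nP) :
    ((sE w : Equiv.Perm (Fin nP)) p).val = evS w p.val := by
  induction w generalizing p with
  | nil => rfl
  | cons l w ih =>
    have e : sE (l :: w) = sAtom l * sE w := by
      unfold sE
      rw [List.map_cons, List.prod_cons]
    rw [e, Subgroup.coe_mul, Equiv.Perm.mul_apply]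
    cases l with
    | zero =>
      change ((tG : Equiv.Perm (Fin nP)) _).val = hF 0 (evS w p.val)
      rw [tG_apply, ih]
    | succ l' =>
      change ((xG : Equiv.Perm (Fin nP)) _).val = xF (evS w p.val)
      rw [xG_apply, ih]

set_option maxRecDepth 1000000 in
theorem comm_a_b : allB (fun p => andB (Nat.beq (hF 0 (aF 1 p)) (aF 1 (hF 0 p)))
    (Nat.beq (xF (aF 1 p)) (aF 1 (xF p)))) nP = true := by
  decide +kernel

theorem tG_comm_a : tG * aG = aG * tG := by
  apply Subtype.ext
  apply perm_ext
  intro p
  have h := (andB_true (allB_true comm_a_b p.isLt)).1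
  have e1 : (((tG * aG : ↥F3P) : Equiv.Perm (Fin nP)) p).val = hF 0 (aF 1 p.val) := by
    rw [Subgroup.coe_mul, Equiv.Perm.mul_apply, tG_apply, aG_apply]
  have e2 : (((aG * tG : ↥F3P) : Equiv.Perm (Fin nP)) p).val = aF 1 (hF 0 p.val) := by
    rw [Subgroup.coe_mul, Equiv.Perm.mul_apply, aG_apply, tG_apply]
  rw [e1, e2]
  exact Nat.eq_of_beq_eq_true h

theorem xG_comm_a : xG * aG = aG * xG := by
  apply Subtype.ext
  apply perm_ext
  intro p
  have h := (andB_true (allB_true comm_a_b p.isLt)).2
  have e1 : (((xG * aG : ↥F3P) : Equiv.Perm (Fin nP)) p).val = xF (aF 1 p.val) := by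
    rw [Subgroup.coe_mul, Equiv.Perm.mul_apply, xG_apply, aG_apply]
  have e2 : (((aG * xG : ↥F3P) : Equiv.Perm (Fin nP)) p).val = aF 1 (xF p.val) := by
    rw [Subgroup.coe_mul, Equiv.Perm.mul_apply, aG_apply, xG_apply]
  rw [e1, e2]
  exact Nat.eq_of_beq_eq_true h

theorem sAtom_comm (l : ℕ) : Commute (sAtom l) aG := by
  cases l with
  | zero => exact tG_comm_a
  | succ l' => exact xG_comm_a

theorem sE_comm (w : List ℕ) : Commute (sE w) aG := by
  induction w with
  | nil => exact Commute.one_left aG
  | cons l w ih =>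
    have e : sE (l :: w) = sAtom l * sE w := by
      unfold sE
      rw [List.map_cons, List.prod_cons]
    rw [e]
    exact (sAtom_comm l).mul_left ih

theorem cE_apply {i : ℕ} (hi : i ≤ 13) (w : List ℕ) (p : Fin nP) :
    (((aG ^ i * sE w : ↥F3P) : Equiv.Perm (Fin nP)) p).val = aF i (evS w p.val) := by
  rw [Subgroup.coe_mul, Equiv.Perm.mul_apply, aG_pow_apply i hi, sE_apply]

/-- the check that a representative is the conjugate of the second generator by the product of a
power of the element of order thirteen and a product of the two involutions. -/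
def specChk (j i : ℕ) (w : List ℕ) : Bool :=
  sapp (fun c => allB (fun p =>
    Nat.beq (repF bF c (aF i (evS w p))) (aF i (evS w (bF p)))) nP) (repc DB j)

theorem spec_conj {j i : ℕ} {w : List ℕ} (hj : j < 2439) (hi : i ≤ 13)
    (h : specChk j i w = true) :
    ∃ c : ↥F3P, c * aG * c⁻¹ = aG ∧ repG DB bG j = c * bG * c⁻¹ := by
  unfold specChk at h
  rw [sapp_eq] at h
  refine ⟨aG ^ i * sE w, ?_, ?_⟩
  · have hc : Commute (aG ^ i * sE w) aG := ((Commute.refl aG).pow_left i).mul_left (sE_comm w)
    rw [mul_inv_eq_iff_eq_mul]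
    exact hc.eq
  · rw [eq_mul_inv_iff_mul_eq]
    apply Subtype.ext
    apply perm_ext
    intro p
    have e1 : (((repG DB bG j * (aG ^ i * sE w) : ↥F3P) : Equiv.Perm (Fin nP)) p).val =
        repF bF (repc DB j) (aF i (evS w p.val)) := by
      rw [Subgroup.coe_mul, Equiv.Perm.mul_apply, repG_B_apply hj, cE_apply hi]
    have e2 : (((aG ^ i * sE w * bG : ↥F3P) : Equiv.Perm (Fin nP)) p).val =
        aF i (evS w (bF p.val)) := by
      rw [Subgroup.coe_mul, Equiv.Perm.mul_apply, cE_apply hi, bG_apply]
    rw [e1, e2]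
    exact Nat.eq_of_beq_eq_true (allB_true h p.isLt)

set_option maxRecDepth 1000000 in
theorem spec_2432 : specChk 2432 8 [0] = true := by decide +kernel

set_option maxRecDepth 1000000 in
theorem spec_2050 : specChk 2050 1 [1] = true := by decide +kernel

set_option maxRecDepth 1000000 in
theorem spec_2119 : specChk 2119 10 [0, 1] = true := by decide +kernel

set_option maxRecDepth 1000000 in
theorem spec_2435 : specChk 2435 12 [1, 0] = true := by decide +kernel

set_option maxRecDepth 1000000 in
theorem spec_2403 : specChk 2403 8 [0, 1, 0] = true := by decide +kernel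

theorem htest : ∀ k0 ∈ [1, 2], ∀ b' ∈ Cand, (∀ e ∈ relsL, evalW e.1 (aG ^ k0) b' ^ e.2 = 1) →
    aG ^ k0 = aG ∧ ∃ c : ↥F3P, c * aG * c⁻¹ = aG ∧ b' = c * bG * c⁻¹ := by
  intro k0 hk0 b' hb' hr
  obtain ⟨j, hj, rfl⟩ := hb'
  simp only [List.mem_cons, List.not_mem_nil, or_false] at hk0
  rcases hk0 with rfl | rfl
  · refine ⟨pow_one aG, ?_⟩
    rcases orB_true (allB_true test1_b hj) with h0 | h1
    · rcases spec_cases h0 with rfl | rfl | rfl | rfl | rfl | rfl
      · refine ⟨1, ?_, ?_⟩
        · rw [one_mul, inv_one, mul_one]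
        · rw [repG_zero, one_mul, inv_one, mul_one]
      · exact spec_conj (by norm_num) (by norm_num) spec_2050
      · exact spec_conj (by norm_num) (by norm_num) spec_2119
      · exact spec_conj (by norm_num) (by norm_num) spec_2403
      · exact spec_conj (by norm_num) (by norm_num) spec_2432
      · exact spec_conj (by norm_num) (by norm_num) spec_2435
    · exfalso
      rw [sapp_eq, sapp_eq] at h1
      exact fail_absurd (k0 := 1) rfl rfl rfl rfl (by norm_num) hj hr h1
  · exfalso
    have h1 := allB_true test2_b hj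
    unfold test2Chk at h1
    rw [sapp_eq, sapp_eq] at h1
    exact fail_absurd (k0 := 2) rfl rfl rfl rfl (by norm_num) hj hr h1

theorem hCand (β : MulAut ↥F3P) : ∃ i : ℕ, aG ^ i * β bG * (aG ^ i)⁻¹ ∈ Cand := by
  obtain ⟨i, j, hj, e⟩ := exists_rep_B _ (aut_conj β)
  exact ⟨i, j, hj, e⟩

theorem hK0aux : ∀ k < 13, 0 < k → ∃ j < 6, ∃ k0 ∈ [1, 2], (k * 4 ^ j) % 13 = k0 % 13 := by
  decide

theorem hK0 : ∀ k, 0 < k → k < 13 → ∃ j : ℕ, ∃ k0 ∈ [1, 2], (k * 4 ^ j) % 13 = k0 % 13 := by
  intro k h0 h13
  obtain ⟨j, -, h⟩ := hK0aux k h13 h0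
  exact ⟨j, h⟩

/-- the outer automorphism group has one element. -/
theorem out_card : Nat.card (Cfsg.Out ↥F3P) = 1 := by
  have hc := card_F3P
  have := finite_F3P
  have : Fact (Nat.Prime 13) := ⟨by norm_num⟩
  have hnd : ¬ 13 ^ 2 ∣ Nat.card ↥F3P := by
    rw [hc]
    decide
  apply card_quot_eq_one
  intro α
  obtain ⟨d, hd⟩ := all_inner_cent 13 aG bG nG 4 closure_aG_bG order_aG hnd conj_nG [1, 2] hK0
    Cand hCand relsL hrels htest α
  exact ⟨d, hd.symm⟩

/-- the outer automorphism group of the presented group has one element. -/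
theorem out_card_Fi23 : Nat.card (Cfsg.Out Fi23) = 1 := by
  obtain ⟨e⟩ := F3P_iso isFi23.1
  rw [card_out_congr e]
  exact out_card

end Cfsg.Agent.Helper9.F3O
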